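import Groth.Agent.FinFr.K721.DualTrace
import Groth.Agent.Sga4h.H513.LocPBC
import Groth.Agent.Sga4h.PushDer
import Groth.Agent.Etcore.HpullComp

/-!
# Galois elements acting by a scalar on the cohomology of an abelian sheaf
-/

set_option autoImplicit false
universe u
open CategoryTheory CategoryTheory.Limits CategoryTheory.Abelian AlgebraicGeometry Opposite
open Groth.Agent Groth.Agent.Sga4h.H925.Defs Groth.Agent.Sga4h.H513.LocFin Groth.Agent.Etcore
open Groth.Agent.Etcore.EtInst Groth.Agent.Etcore.PullCoh Groth.Agent.Etcore.HpullCalc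
open Groth.Agent.Sga4h.H923.DevDef
open scoped Groth.Agent.Etcore.EtInst

namespace K721.ScBase

attribute [local instance] Groth.Agent.S0101.result

variable {k : Type u} [Field k] {K : Type u} [Field K] [Algebra k K]

/-- The Galois action on `H^m(P ⊗ K, π⁻¹ F)`. -/
noncomputable def act {P : Scheme.{u}} (b : P ⟶ Spec (CommRingCat.of k)) (σ : K ≃ₐ[k] K) (F : EtCoh.Ab P) (m : ℕ) :
    HH (FinFr.ext K b) ((EtCoh.pull (FinFr.extπ K b)).obj F) m →+
      HH (FinFr.ext K b) ((EtCoh.pull (FinFr.extπ K b)).obj F) m :=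
  hpVia (FinFr.galAct b σ) (FinFr.extπ K b) (FinFr.extπ K b) (FinFr.galAct_fst b σ) F m

/-- `σ` acts on `H^m(P ⊗ K, π⁻¹ F)` as multiplication by the integer `c`. -/
def IsSc {P : Scheme.{u}} (b : P ⟶ Spec (CommRingCat.of k)) (σ : K ≃ₐ[k] K) (F : EtCoh.Ab P) (m : ℕ) (c : ℤ) : Prop :=
  ∀ x : HH (FinFr.ext K b) ((EtCoh.pull (FinFr.extπ K b)).obj F) m, act b σ F m x = c • x

theorem act_map {P : Scheme.{u}} (b : P ⟶ Spec (CommRingCat.of k)) (σ : K ≃ₐ[k] K) {F G : EtCoh.Ab P} (φ : F ⟶ G)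
    (m : ℕ) (x : HH (FinFr.ext K b) ((EtCoh.pull (FinFr.extπ K b)).obj F) m) :
    act b σ G m (HHmap ((EtCoh.pull (FinFr.extπ K b)).map φ) m x) =
      HHmap ((EtCoh.pull (FinFr.extπ K b)).map φ) m (act b σ F m x) :=
  hpVia_map (FinFr.galAct b σ) (FinFr.extπ K b) (FinFr.extπ K b) (FinFr.galAct_fst b σ) φ m x

theorem IsSc.of_surj {P : Scheme.{u}} {b : P ⟶ Spec (CommRingCat.of k)} {σ : K ≃ₐ[k] K} {F G : EtCoh.Ab P}
    {m : ℕ} {c : ℤ} (h : IsSc b σ F m c) (φ : F ⟶ G)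
    (hs : Function.Surjective (HHmap ((EtCoh.pull (FinFr.extπ K b)).map φ) m)) : IsSc b σ G m c := by
  intro y
  obtain ⟨x, rfl⟩ := hs y
  rw [act_map, h x, map_zsmul]

theorem IsSc.of_iso {P : Scheme.{u}} {b : P ⟶ Spec (CommRingCat.of k)} {σ : K ≃ₐ[k] K} {F G : EtCoh.Ab P}
    {m : ℕ} {c : ℤ} (h : IsSc b σ F m c) (e : F ≅ G) : IsSc b σ G m c :=
  h.of_surj e.hom (HHmap_bijective _ m).2

section Lin

variable [Fact FinFr.PullExact.{u}] {Λ : Type} [CommRing Λ]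

theorem isSc_iff {P : Scheme.{u}} (b : P ⟶ Spec (CommRingCat.of k)) (σ : K ≃ₐ[k] K) (L : EtLam.Sheaf Λ P)
    (m : ℕ) (c : ℤ) : IsSc b σ L.carrier m c ↔ ∀ x : HK K b L m, galK K b σ L m x = c • x := by
  constructor
  · intro h x
    apply (Sga4h.H923.ToHH.toHH (EtLam.pullback (FinFr.extπ K b) L) m).injective
    rw [map_zsmul]
    exact (DualTrace.toHH_galK b L σ m x).trans (h _)
  · intro h y
    obtain ⟨x, rfl⟩ := (Sga4h.H923.ToHH.toHH (EtLam.pullback (FinFr.extπ K b) L) m).surjective y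
    refine (DualTrace.toHH_galK b L σ m x).symm.trans ?_
    rw [h x, map_zsmul]
    rfl

/-- An abelian sheaf as a sheaf of `ℤ`-modules. -/
noncomputable def intSheaf {P : Scheme.{u}} (F : EtCoh.Ab P) : EtLam.Sheaf ℤ P :=
  ⟨F, Int.castRingHom (End F)⟩

theorem isSc_edge [IsSepClosed K] {P : Scheme.{u}} (b : P ⟶ Spec (CommRingCat.of k)) [IsProper b] (σ : K ≃ₐ[k] K)
    (F : EtCoh.Ab P) (hF : EtCoh.IsTorsion F) (m : ℕ) (c : ℤ) :
    IsSc b σ F m c ↔ IsSc (𝟙 (Spec (CommRingCat.of k))) σ ((EtCoh.Rpush b m).obj F) 0 c := by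
  obtain ⟨e, he⟩ := exists_edge_spec K Sga4h.H513.LocPBC.pbc b (intSheaf F) hF m
  have h1 := isSc_iff (K := K) b σ (intSheaf F) m c
  have h2 := isSc_iff (K := K) (𝟙 (Spec (CommRingCat.of k))) σ (rpush b m (intSheaf F)) 0 c
  refine h1.trans (Iff.trans ?_ h2.symm)
  constructor
  · intro h x
    apply e.injective
    rw [he, h, map_zsmul]
  · intro h x
    obtain ⟨x, rfl⟩ := e.surjective x
    rw [← he, h, map_zsmul]

/-- **Scalars and direct images.** -/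
theorem isSc_push [IsSepClosed K] {P Q : Scheme.{u}} (h : P ⟶ Q) [IsProper h] (b : Q ⟶ Spec (CommRingCat.of k))
    [IsProper b] (b' : P ⟶ Spec (CommRingCat.of k)) (w : h ≫ b = b') (σ : K ≃ₐ[k] K)
    (F : EtCoh.Ab P) (hF : EtCoh.IsTorsion F) (hv : ∀ p, 0 < p → IsZero ((EtCoh.Rpush h p).obj F))
    (G : EtCoh.Ab Q) (hG : EtCoh.IsTorsion G) (e : (EtCoh.push h).obj F ≅ G) (m : ℕ) (c : ℤ) (H : IsSc b' σ F m c) :
    IsSc b σ G m c := by
  subst w
  rw [isSc_edge b σ G hG]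
  rw [isSc_edge (h ≫ b) σ F hF] at H
  exact H.of_iso ((Sga4h.PushDer.rpushCompIso h b F hv m).symm ≪≫ (EtCoh.Rpush b m).mapIso e)

end Lin

end K721.ScBase
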