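import Groth.Agent.FinFr.K721.DualSum
import Groth.Agent.FinFr.K721.ScBase
import Groth.Agent.Sga2lef.H101.AffOrigin
import Groth.Agent.Sga5.ProjCoh

/-!
# The Galois action on the top cohomology with compact support of affine space
-/

set_option autoImplicit false
universe u
open CategoryTheory CategoryTheory.Limits CategoryTheory.Abelian AlgebraicGeometry Opposite
open Groth.Agent Groth.Agent.Sga4h.H925.Defs Groth.Agent.Sga4h.H513.LocFin Groth.Agent.Etcore
open Groth.Agent.Etcore.EtInst Groth.Agent.Etcore.PullCoh Groth.Agent.Etcore.HpullCalc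
open scoped Groth.Agent.Etcore.EtInst Groth.Agent.Sga4B.ModEtInst

namespace K721.AffTop

open EqDual DualTrace DualTr2 DualSum ScBase

attribute [local instance] Groth.Agent.S0101.result

section H0

variable {k : Type u} [Field k] {K : Type u} [Field K] [Algebra k K]
  {X₀ : Scheme.{u}} (a : X₀ ⟶ Spec (CommRingCat.of k)) [ConnectedSpace (FinFr.ext K a)] (n : ℕ) (hn : 0 < n)

include hn in
/-- The restriction map on `H⁰(X, ℤ/n)` is trivial. -/
theorem res_zero (g : FinFr.ext K a ⟶ FinFr.ext K a) (y : Sga5.H861.Res.R (Sga4B.LMLS.Lam.{u} n) (FinFr.ext K a) 0) :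
    Sga5.H861.Res.res g 0 y = y := by
  obtain ⟨φ⟩ := EtSix.H42.TateK.nonempty_end_const (n := n) (X := FinFr.ext K a)
  obtain ⟨f, hf⟩ := (Ext.addEquiv₀ (X := FixPt.unit (Sga4B.LMLS.Lam.{u} n) (FinFr.ext K a))
    (Y := FixPt.unit (Sga4B.LMLS.Lam.{u} n) (FinFr.ext K a))).symm.surjective y
  obtain ⟨z, rfl⟩ := EtSix.H42.TateK.exists_zsmul hn φ f
  have h1 : y = z • Ext.mk₀ (𝟙 (FixPt.unit (Sga4B.LMLS.Lam.{u} n) (FinFr.ext K a))) := by
    rw [← EqAbs.mk₀_zsmul]
    exact hf.symm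
  have h2 : Sga5.H861.Res.res g 0 (Ext.mk₀ (𝟙 (FixPt.unit (Sga4B.LMLS.Lam.{u} n) (FinFr.ext K a)))) =
      Ext.mk₀ (𝟙 (FixPt.unit (Sga4B.LMLS.Lam.{u} n) (FinFr.ext K a))) := by
    rw [Sga5.H861.Res.res_apply, Ext.mapExactFunctor_mk₀, CategoryTheory.Functor.map_id, Ext.mk₀_comp_mk₀,
      Ext.mk₀_comp_mk₀, Category.comp_id, Iso.inv_hom_id]
  rw [h1, map_zsmul, h2]

variable [Fact FinFr.PullExact.{u}]

include hn in
theorem galK_zero (σ : K ≃ₐ[k] K) (x : HK K a (FinFr.constLam (ZMod n) X₀) 0) :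
    galK K a σ (FinFr.constLam (ZMod n) X₀) 0 x = x := by
  apply (tX a n 0).injective
  rw [tX_gal, res_zero a n hn]

omit [Fact FinFr.PullExact.{u}] in
theorem natCard_HK : Nat.card (HK K a (FinFr.constLam (ZMod n) X₀) 0) = Nat.card (ZMod n) := by
  obtain ⟨e⟩ := Etrest.SHPoint.nonempty_H0_const (FinFr.ext K a) (ZMod n)
  exact Nat.card_congr ((Sga4h.H923.ToHH.toHH (EtLam.pullback (FinFr.extπ K a) (FinFr.constLam (ZMod n) X₀)) 0).trans
    ((Sga4h.H915.DictConst.HHequiv (EtCore.pullConst (FinFr.extπ K a) (ZMod n)) 0).trans e)).toEquiv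

theorem trace_zero (ℓ : ℕ) [Fact ℓ.Prime] (σ : K ≃ₐ[k] K) :
    LinearMap.trace (ZMod ℓ) _ (FinFr.galLin (K := K) a σ (FinFr.constLam (ZMod ℓ) X₀) 0) = 1 :=
  Sga4h.H616.TrConst.trace_eq_one_of_card (V := HK K a (FinFr.constLam (ZMod ℓ) X₀) 0) (natCard_HK a ℓ)
    (galK K a σ (FinFr.constLam (ZMod ℓ) X₀) 0) (galK_zero a ℓ (Fact.out : ℓ.Prime).pos σ)

end H0

section Aff

variable (k : Type u) [Field k] (K : Type u) [Field K] [Algebra k K] (d : ℕ)

attribute [local instance] MvPolynomial.algebraMvPolynomial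

open Sga2lef.H101 in
theorem isPullback_A : IsPullback
    (Spec.map (CommRingCat.ofHom (algebraMap (MvPolynomial (Fin d) k) (MvPolynomial (Fin d) K))))
    (AffOrigin.f K d) (AffOrigin.f k d) (FinFr.specι k K) :=
  isPullback_SpecMap_of_isPushout _ _ _ _
    (CommRingCat.isPushout_of_isPushout k (MvPolynomial (Fin d) k) K (MvPolynomial (Fin d) K))

/-- Affine space over `K`. -/
noncomputable def isoA : Sga2lef.H101.AffOrigin.A K d ≅ FinFr.ext K (Sga2lef.H101.AffOrigin.f k d) :=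
  (isPullback_A k K d).isoPullback

instance connectedSpace_A : ConnectedSpace (FinFr.ext K (Sga2lef.H101.AffOrigin.f k d)) := by
  have : IsIntegral (Sga2lef.H101.AffOrigin.A K d) := inferInstance
  exact (isoA k K d).hom.homeomorph.surjective.connectedSpace (isoA k K d).hom.continuous

theorem subsingleton_H [IsSepClosed K] (n : ℕ) (hn : (n : K) ≠ 0) (q : ℕ) (hq : 0 < q) :
    Subsingleton (EtCoh.H (FinFr.ext K (Sga2lef.H101.AffOrigin.f k d)) (EtCoh.const _ (ZMod n)) q) := by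
  obtain ⟨e⟩ := Etrest.HConstIso.nonempty_HConst (isoA k K d) (ZMod n) q
  have := Sga5.ProjCoh.subsingleton_H_spec K n hn d q hq
  exact e.toEquiv.subsingleton

/-- Rational points of affine space. -/
noncomputable def ratEquiv : FinFr.RatPt (Sga2lef.H101.AffOrigin.f k d) ≃ (Fin d → k) where
  toFun x i := (Spec.preimage x.1).hom (MvPolynomial.X i)
  invFun v := ⟨Spec.map (CommRingCat.ofHom (MvPolynomial.aeval v : MvPolynomial (Fin d) k →ₐ[k] k).toRingHom), by
    rw [Sga2lef.H101.AffOrigin.f, ← Spec.map_comp, ← CommRingCat.ofHom_comp]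
    have h : (MvPolynomial.aeval v : MvPolynomial (Fin d) k →ₐ[k] k).toRingHom.comp
        (algebraMap k (MvPolynomial (Fin d) k)) = RingHom.id k :=
      (MvPolynomial.aeval v : MvPolynomial (Fin d) k →ₐ[k] k).comp_algebraMap
    rw [h]
    exact Spec.map_id _⟩
  left_inv x := by
    apply Subtype.ext
    dsimp only
    refine Eq.trans ?_ (Spec.map_preimage x.1)
    congr 1
    ext1
    have hx : (CommRingCat.ofHom (algebraMap k (MvPolynomial (Fin d) k))) ≫ Spec.preimage x.1 = 𝟙 _ := by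
      apply Spec.map_injective
      rw [Spec.map_comp, Spec.map_preimage, x.2, Spec.map_id]
    apply MvPolynomial.ringHom_ext
    · intro r
      have h1 : (Spec.preimage x.1).hom (MvPolynomial.C r) = r :=
        RingHom.congr_fun (congrArg CommRingCat.Hom.hom hx) r
      rw [h1]
      exact MvPolynomial.aeval_C (R := k) (S₁ := k) _ r
    · intro i
      exact MvPolynomial.aeval_X (R := k) (S₁ := k) _ i
  right_inv v := by
    funext i
    dsimp only
    rw [Spec.preimage_map]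
    exact MvPolynomial.aeval_X (R := k) (S₁ := k) _ i

theorem card_ratPt [Fintype k] : Nat.card (FinFr.RatPt (Sga2lef.H101.AffOrigin.f k d)) = Fintype.card k ^ d := by
  rw [Nat.card_congr (ratEquiv k d), Nat.card_fun, Nat.card_eq_fintype_card, Nat.card_eq_fintype_card,
    Fintype.card_fin]

/-- **The scalar for affine space.** -/
theorem top_eq [Fintype k] [Algebra.IsAlgebraic k K] [IsAlgClosed K] [Fact FinFr.PullExact.{u}] {P : Scheme.{u}}
    (b : P ⟶ Spec (CommRingCat.of k)) [IsProper b] (j : Sga2lef.H101.AffOrigin.A k d ⟶ P) [IsOpenImmersion j]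
    (hj : j ≫ b = Sga2lef.H101.AffOrigin.f k d) (ℓ : ℕ) [Fact ℓ.Prime] (hℓ : (ℓ : k) ≠ 0)
    (hT : TrFor k K (Sga2lef.H101.AffOrigin.f k d) j b ℓ) (c : ZMod ℓ)
    (hc : IsTop b j ℓ (FinFr.arith k K) (2 * d) c) : c * (Fintype.card k : ZMod ℓ) ^ d = 1 := by
  have hsm : SmoothOfRelativeDimension d (Sga2lef.H101.AffOrigin.f k d) :=
    Sga2lef.H101.AffOrigin.smooth_mvPolynomial k d
  have h1 := sum_eq (K := K) (Sga2lef.H101.AffOrigin.f k d) b j hj d ℓ hℓ hT c hc
  rw [card_ratPt, Nat.cast_pow] at h1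
  rw [← h1, finsum_eq_single _ 0, pow_zero, one_mul]
  · exact trace_zero (Sga2lef.H101.AffOrigin.f k d) ℓ (FinFr.arith k K)
  · intro i hi
    have h2 : Subsingleton (HK K (Sga2lef.H101.AffOrigin.f k d) (FinFr.constLam (ZMod ℓ) _) i) :=
      subsingleton_HK_const (Sga2lef.H101.AffOrigin.f k d) ℓ i
        (subsingleton_H k K d ℓ (cast_ne ℓ hℓ) i (Nat.pos_of_ne_zero hi))
    have h3 := trace_sub ℓ (V := HK K (Sga2lef.H101.AffOrigin.f k d) (FinFr.constLam (ZMod ℓ) _) i)
      (galK K (Sga2lef.H101.AffOrigin.f k d) (FinFr.arith k K) (FinFr.constLam (ZMod ℓ) _) i)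
    exact (congrArg (fun t => (-1 : ZMod ℓ) ^ i * t) h3).trans (mul_zero _)

end Aff

end K721.AffTop
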