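import Groth.Agent.FinFr.K721.Idem
import Groth.Agent.Variety.K418.GalTop
import Groth.Agent.S7621
import Groth.Agent.Sga4h.H927.CycGeo

/-!
# The connected components of `X ⊗ K` and Frobenius
-/

set_option autoImplicit false
universe u
open CategoryTheory CategoryTheory.Limits CategoryTheory.Abelian AlgebraicGeometry Opposite
open Groth.Agent

namespace K721.Comp

section Geo

variable {k : Type u} [Field k] {K : Type u} [Field K] [Algebra k K] {X₀ : Scheme.{u}}
  (a : X₀ ⟶ Spec (CommRingCat.of k))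

theorem galAct_eq (σ : K ≃ₐ[k] K) : letI : X₀.Over (Spec (CommRingCat.of k)) := ⟨a⟩
    Curv2.galAct k X₀ K σ = FinFr.galAct a σ := by
  letI : X₀.Over (Spec (CommRingCat.of k)) := ⟨a⟩
  apply pullback.hom_ext
  · exact (VarietyB.BaseExt3.galAct_fst k X₀ K σ).trans (FinFr.galAct_fst a σ).symm
  · exact (VarietyB.BaseExt3.galAct_snd k X₀ K σ).trans (FinFr.galAct_snd a σ).symm

theorem exists_conj [IsGalois k K] (y y' : FinFr.ext K a) (h : FinFr.extπ K a y = FinFr.extπ K a y') :
    ∃ σ : K ≃ₐ[k] K, FinFr.galAct a σ y = y' := by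
  letI : X₀.Over (Spec (CommRingCat.of k)) := ⟨a⟩
  obtain ⟨σ, hσ⟩ := VarietyB.BaseExt3.exists_galAct_eq k X₀ K y y' h
  rw [galAct_eq] at hσ
  exact ⟨σ, hσ⟩

theorem image_eq_univ [ConnectedSpace X₀] [Algebra.IsAlgebraic k K] (U : Set (FinFr.ext K a)) (hU : IsClopen U)
    (hne : U.Nonempty) : FinFr.extπ K a '' U = Set.univ := by
  letI : X₀.Over (Spec (CommRingCat.of k)) := ⟨a⟩
  exact K418.GalTop.image_eq_univ_of_isClopen k K X₀ U hU hne

theorem exists_fin [IsGalois k K] (V : Set (FinFr.ext K a)) (hV : IsOpen V) (hVc : IsCompact V) :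
    ∃ E : IntermediateField k K, FiniteDimensional k ↥E ∧
      ∀ σ : K ≃ₐ[k] K, (∀ x : K, x ∈ E → σ x = x) → FinFr.galAct a σ '' V = V := by
  letI : X₀.Over (Spec (CommRingCat.of k)) := ⟨a⟩
  obtain ⟨E, hE, h⟩ := S7621.result k K X₀ V hV hVc
  refine ⟨E, hE, fun σ hσ => ?_⟩
  have h1 := h σ hσ
  rw [galAct_eq] at h1
  exact h1

theorem connectedSpace_of_rat [IsGalois k K] [ConnectedSpace X₀] (x : FinFr.RatPt a) :
    ConnectedSpace (FinFr.ext K a) := by
  letI : X₀.Over (Spec (CommRingCat.of k)) := ⟨a⟩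
  letI : (Spec (CommRingCat.of k)).Over (Spec (CommRingCat.of k)) := ⟨𝟙 _⟩
  have h1 : x.1.IsOver (Spec (CommRingCat.of k)) := ⟨x.2⟩
  have h2 : ConnectedSpace ↥(Curv2.bc k (Spec (CommRingCat.of k)) K) := by
    have h3 : IsIso (Curv2.bcSnd k (Spec (CommRingCat.of k)) K) := by
      change IsIso (pullback.snd (𝟙 (Spec (CommRingCat.of k))) _)
      infer_instance
    exact (inv (Curv2.bcSnd k (Spec (CommRingCat.of k)) K)).homeomorph.surjective.connectedSpace
      (inv (Curv2.bcSnd k (Spec (CommRingCat.of k)) K)).continuous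
  exact K418.GalTop.connectedSpace_of_galois k x.1 K

end Geo

section Fin

variable (k K : Type u) [Field k] [Fintype k] [Field K] [Algebra k K] [Algebra.IsAlgebraic k K]

theorem isGalois [IsAlgClosed K] : IsGalois k K := by
  have : IsAlgClosure k K := ⟨inferInstance, inferInstance⟩
  have : Normal k K := IsAlgClosure.normal k K
  exact ⟨⟩

variable {k K}

theorem arith_pow (E : IntermediateField k K) [FiniteDimensional k E] (n : ℕ) (x : E) :
    (((FiniteField.frobeniusAlgEquivOfAlgebraic k E) ^ n) x : K) = ((FinFr.arith k K) ^ n) (x : K) := by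
  induction n with
  | zero => rfl
  | succ n ih =>
    rw [pow_succ', pow_succ', AlgEquiv.mul_apply, AlgEquiv.mul_apply, ← ih]
    rfl

theorem exists_pow [IsGalois k K] (E : IntermediateField k K) [FiniteDimensional k E] (σ : K ≃ₐ[k] K) :
    ∃ n : ℕ, ∀ x : K, x ∈ E → σ x = ((FinFr.arith k K) ^ n) x := by
  have : Finite E := Module.finite_of_finite k
  obtain ⟨n, hn⟩ := (FiniteField.bijective_frobeniusAlgEquivOfAlgebraic_pow k E).2 (AlgEquiv.restrictNormal σ E)
  refine ⟨n.1, fun x hx => ?_⟩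
  rw [← arith_pow E n.1 ⟨x, hx⟩]
  have h1 := AlgEquiv.restrictNormal_commutes σ E ⟨x, hx⟩
  rw [← hn] at h1
  exact h1.symm

end Fin

end K721.Comp
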