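import Groth.Agent.FinFr.K721.Comp

/-!
# The trace of the arithmetic Frobenius vanishes if `X ⊗ K` is disconnected
-/

set_option autoImplicit false
universe u
open CategoryTheory CategoryTheory.Limits CategoryTheory.Abelian AlgebraicGeometry Opposite
open Groth.Agent Groth.Agent.Sga4h.H925.Defs Groth.Agent.Sga4h.H513.LocFin Groth.Agent.Etcore
open Groth.Agent.Etcore.EtInst Groth.Agent.Etcore.PullCoh Groth.Agent.Etcore.HpullCalc
open Groth.Agent.Sga4B.ConstLC Groth.Agent.Sga7.H744.LCConst
open scoped Groth.Agent.Etcore.EtInst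

namespace K721.Comp2

open EqDual DualTrace Idem Comp

attribute [local instance] Groth.Agent.S0101.result

variable {k : Type u} [Field k] {K : Type u} [Field K] [Algebra k K]
  {X₀ : Scheme.{u}} (a : X₀ ⟶ Spec (CommRingCat.of k))

section Stab

theorem galAct_mul_apply (σ τ : K ≃ₐ[k] K) (y : FinFr.ext K a) :
    FinFr.galAct a (σ * τ) y = FinFr.galAct a τ (FinFr.galAct a σ y) := by
  rw [← Sga4h.H927.CycGeo.galAct_mul, Scheme.Hom.comp_apply]

theorem galAct_one : FinFr.galAct a (1 : K ≃ₐ[k] K) = 𝟙 _ := by
  have h := galAct_symm a (1 : K ≃ₐ[k] K)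
  have h2 : (1 : K ≃ₐ[k] K) = (1 : K ≃ₐ[k] K) * 1 := (mul_one _).symm
  have h3 : FinFr.galAct a (1 : K ≃ₐ[k] K) ≫ FinFr.galAct a (1 : K ≃ₐ[k] K) = FinFr.galAct a (1 : K ≃ₐ[k] K) := by
    rw [Sga4h.H927.CycGeo.galAct_mul, mul_one]
  rw [← cancel_epi (FinFr.galAct a (1 : K ≃ₐ[k] K)), h3, Category.comp_id]

theorem image_pow {W : Set (FinFr.ext K a)} {σ : K ≃ₐ[k] K} (h : FinFr.galAct a σ '' W = W) (n : ℕ) :
    FinFr.galAct a (σ ^ n) '' W = W := by
  induction n with
  | zero =>
    rw [pow_zero, galAct_one]
    exact Set.image_id W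
  | succ n ih =>
    rw [pow_succ]
    have : FinFr.galAct a (σ ^ n * σ) '' W = FinFr.galAct a σ '' (FinFr.galAct a (σ ^ n) '' W) := by
      rw [Set.image_image]
      exact Set.image_congr fun y _ => galAct_mul_apply a _ _ y
    rw [this, ih, h]

/-- A clopen subset stable under Frobenius is trivial. -/
theorem clopen_stable [Fintype k] [Algebra.IsAlgebraic k K] [IsGalois k K] [ConnectedSpace X₀]
    [CompactSpace (FinFr.ext K a)] (W : Set (FinFr.ext K a)) (hW : IsClopen W)
    (hst : FinFr.galAct a (FinFr.arith k K) '' W = W) (hne : W.Nonempty) : W = Set.univ := by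
  by_contra hU
  have hne' : Wᶜ.Nonempty := Set.nonempty_compl.2 hU
  have h1 := image_eq_univ a W hW hne
  obtain ⟨w', hw'⟩ := hne'
  obtain ⟨w, hw, hww⟩ : FinFr.extπ K a w' ∈ FinFr.extπ K a '' W := by rw [h1]; trivial
  obtain ⟨σ, hσ⟩ := exists_conj a w w' hww
  obtain ⟨E, hE, hEW⟩ := exists_fin a W hW.2 hW.1.isCompact
  obtain ⟨n, hn⟩ := exists_pow E σ
  have h2 : FinFr.galAct a (((FinFr.arith k K) ^ n)⁻¹ * σ) '' W = W := by
    refine hEW _ fun x hx => ?_
    rw [AlgEquiv.mul_apply, hn x hx]
    exact ((FinFr.arith k K) ^ n).symm_apply_apply x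
  have h3 : FinFr.galAct a σ '' W = W := by
    have e : σ = (FinFr.arith k K) ^ n * (((FinFr.arith k K) ^ n)⁻¹ * σ) := by group
    rw [e]
    have : FinFr.galAct a ((FinFr.arith k K) ^ n * (((FinFr.arith k K) ^ n)⁻¹ * σ)) '' W =
        FinFr.galAct a (((FinFr.arith k K) ^ n)⁻¹ * σ) '' (FinFr.galAct a ((FinFr.arith k K) ^ n) '' W) := by
      rw [Set.image_image]
      exact Set.image_congr fun y _ => galAct_mul_apply a _ _ y
    rw [this, image_pow a hst n, h2]
  apply hw'
  rw [← hσ, ← h3]
  exact ⟨w, hw, rfl⟩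

end Stab

section Theta

variable [Fact FinFr.PullExact.{u}] (n : ℕ)

omit [Fact FinFr.PullExact.{u}] in
/-- The comparison with locally constant functions. -/
noncomputable def theta (q : ℕ) : HK K a (FinFr.constLam (ZMod n) X₀) q ≃+
    HH (FinFr.ext K a) (LC (FinFr.ext K a) (ULift.{u + 1} (ZMod n))) q :=
  (Sga4h.H923.ToHH.toHH (EtLam.pullback (FinFr.extπ K a) (FinFr.constLam (ZMod n) X₀)) q).trans
    ((Sga4h.H915.DictConst.HHequiv (EtCore.pullConst (FinFr.extπ K a) (ZMod n)) q).trans
      (Sga4h.H915.DictConst.HHequiv (constIso (FinFr.ext K a) (ZMod n)) q))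

theorem theta_gal (σ : K ≃ₐ[k] K) (q : ℕ) (x : HK K a (FinFr.constLam (ZMod n) X₀) q) :
    theta a n q (galK K a σ (FinFr.constLam (ZMod n) X₀) q x) =
      lcm (FinFr.galAct a σ) (ULift.{u + 1} (ZMod n)) q (theta a n q x) := by
  have h0 : ∀ y, theta (K := K) a n q y = HHmap (constIso (FinFr.ext K a) (ZMod n)).hom q
      (HHmap (EtCore.pullConst (FinFr.extπ K a) (ZMod n)).hom q
        (Sga4h.H923.ToHH.toHH (EtLam.pullback (FinFr.extπ K a) (FinFr.constLam (ZMod n) X₀)) q y)) := fun _ => rfl
  rw [h0, h0, lcm_constIso]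
  congr 1
  exact (congrArg _ (toHH_galK a (FinFr.constLam (ZMod n) X₀) σ q x)).trans
    (via_const (FinFr.galAct a σ) (FinFr.extπ K a) (FinFr.galAct_fst a σ) (ZMod n) q _)

end Theta

theorem finite_connectedComponents (A : Type*) [TopologicalSpace A] [TopologicalSpace.NoetherianSpace A] :
    Finite (_root_.ConnectedComponents A) := by
  have h := TopologicalSpace.NoetherianSpace.finite_irreducibleComponents (α := A)
  have : Finite ↥(irreducibleComponents A) := h
  let φ : ↥(irreducibleComponents A) → _root_.ConnectedComponents A := fun Z =>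
    ((Z.2.1.nonempty.some : A) : _root_.ConnectedComponents A)
  refine Finite.of_surjective φ fun c => ?_
  obtain ⟨x, rfl⟩ := ConnectedComponents.surjective_coe c
  refine ⟨⟨irreducibleComponent x, irreducibleComponent_mem_irreducibleComponents x⟩, ?_⟩
  rw [ConnectedComponents.coe_eq_coe]
  refine connectedComponent_eq ?_
  have h1 := (irreducibleComponent_mem_irreducibleComponents x).1.nonempty.some_mem
  exact (isIrreducible_irreducibleComponent (x := x)).isPreirreducible.isPreconnected.subset_connectedComponent h1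
    mem_irreducibleComponent

section Trace

variable [Fact FinFr.PullExact.{u}] (ℓ : ℕ) [Fact ℓ.Prime]

omit [Fact FinFr.PullExact.{u}] in
/-- The action of locally constant functions. -/
noncomputable def E (q : ℕ) (f : LocallyConstant (FinFr.ext K a) (ULift.{u + 1} (ZMod ℓ))) :
    HK K a (FinFr.constLam (ZMod ℓ) X₀) q →ₗ[ZMod ℓ] HK K a (FinFr.constLam (ZMod ℓ) X₀) q :=
  AddMonoidHom.toZModLinearMap ℓ (((theta a ℓ q).symm.toAddMonoidHom.comp (mulH (ULift.{u + 1} (ZMod ℓ)) f q)).comp
    (theta a ℓ q).toAddMonoidHom)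

omit [Fact FinFr.PullExact.{u}] in
theorem theta_E (q : ℕ) (f : LocallyConstant (FinFr.ext K a) (ULift.{u + 1} (ZMod ℓ)))
    (x : HK K a (FinFr.constLam (ZMod ℓ) X₀) q) :
    theta a ℓ q (E a ℓ q f x) = mulH (ULift.{u + 1} (ZMod ℓ)) f q (theta a ℓ q x) :=
  (theta a ℓ q).apply_symm_apply _

theorem galK_E (σ : K ≃ₐ[k] K) (q : ℕ) (f : LocallyConstant (FinFr.ext K a) (ULift.{u + 1} (ZMod ℓ)))
    (x : HK K a (FinFr.constLam (ZMod ℓ) X₀) q) :
    galK K a σ (FinFr.constLam (ZMod ℓ) X₀) q (E a ℓ q f x) =
      E a ℓ q (f.comap (cmap (FinFr.galAct a σ))) (galK K a σ (FinFr.constLam (ZMod ℓ) X₀) q x) := by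
  apply (theta a ℓ q).injective
  rw [theta_gal, theta_E, lcm_mulH, theta_E, theta_gal]

/-- **The trace of the arithmetic Frobenius vanishes if `X ⊗ K` is disconnected.** -/
theorem trace_eq_zero [Fintype k] [Algebra.IsAlgebraic k K] [IsAlgClosed K] [ConnectedSpace X₀]
    [LocallyOfFiniteType a] [QuasiCompact a] (hX : ¬ ConnectedSpace (FinFr.ext K a)) (q : ℕ) :
    LinearMap.trace (ZMod ℓ) _ (FinFr.galLin (K := K) a (FinFr.arith k K) (FinFr.constLam (ZMod ℓ) X₀) q) = 0 := by
  classical
  have hG : IsGalois k K := Comp.isGalois k K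
  let X := FinFr.ext K a
  let g : X ⟶ X := FinFr.galAct a (FinFr.arith k K)
  have hgi : IsIso g := isIso_galAct a _
  let A := ULift.{u + 1} (ZMod ℓ)
  have hN : IsLocallyNoetherian X := LocallyOfFiniteType.isLocallyNoetherian (FinFr.extStr K a)
  have hC : CompactSpace X := QuasiCompact.compactSpace_of_compactSpace (FinFr.extStr K a)
  have hNoe : IsNoetherian X := ⟨⟩
  have hNS : TopologicalSpace.NoetherianSpace X := inferInstance
  have hne : Nonempty X := by
    have h2 : Surjective (FinFr.extπ K a) :=
      MorphismProperty.of_isPullback (P := @Surjective) (isPullback_ext (K := K) a).flip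
        (inferInstance : Surjective (FinFr.specι k K))
    obtain ⟨x, -⟩ := h2.surj (Classical.arbitrary X₀)
    exact ⟨x⟩
  let J := _root_.ConnectedComponents X
  have hJ : Finite J := finite_connectedComponents X
  let _ : Fintype J := Fintype.ofFinite J
  have hD : DiscreteTopology J := inferInstance
  let U (c : J) : Set X := (fun x : X => (ConnectedComponents.mk x : J)) ⁻¹' {c}
  have hU : ∀ c, IsClopen (U c) := fun c => (isClopen_discrete {c}).preimage ConnectedComponents.continuous_coe
  let e (c : J) : LocallyConstant X A := LocallyConstant.charFn A (hU c)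
  have he : ∀ c x, e c x = if (ConnectedComponents.mk x : J) = c then 1 else 0 := by
    intro c x
    change Set.indicator (U c) 1 x = _
    rw [Set.indicator_apply]
    rfl
  let h : X ⟶ X := inv g
  have hgh : ∀ x : X, g (h x) = x := fun x => by
    rw [← Scheme.Hom.comp_apply, IsIso.inv_hom_id]
    rfl
  have hhg : ∀ x : X, h (g x) = x := fun x => by
    rw [← Scheme.Hom.comp_apply, IsIso.hom_inv_id]
    rfl
  let s : J → J := h.continuous.connectedComponentsMap
  let t : J → J := g.continuous.connectedComponentsMap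
  have hs : ∀ x : X, s (ConnectedComponents.mk x) = ConnectedComponents.mk (h x) := fun x => rfl
  have ht : ∀ x : X, t (ConnectedComponents.mk x) = ConnectedComponents.mk (g x) := fun x => rfl
  have hts : ∀ c : J, t (s c) = c := by
    intro c
    obtain ⟨x, rfl⟩ := ConnectedComponents.surjective_coe c
    rw [hs, ht, hgh]
  have hst : ∀ c : J, s (t c) = c := by
    intro c
    obtain ⟨x, rfl⟩ := ConnectedComponents.surjective_coe c
    rw [ht, hs, hhg]
  have hcomap : ∀ c : J, (e c).comap (cmap g) = e (s c) := by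
    intro c
    apply LocallyConstant.ext
    intro x
    change e c (g x) = e (s c) x
    rw [he, he]
    have : (ConnectedComponents.mk (g x) : J) = c ↔ (ConnectedComponents.mk x : J) = s c := by
      rw [← ht]
      exact ⟨fun h => by rw [← h, hst], fun h => by rw [h, hts]⟩
    simp only [this]
  have hfix : ∀ c : J, s c ≠ c := by
    intro c hc
    have h1 : g '' (U c) = U c := by
      ext y
      constructor
      · rintro ⟨x, hx, rfl⟩
        have hx' : (ConnectedComponents.mk x : J) = c := hx
        change (ConnectedComponents.mk (g x) : J) = c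
        rw [← ht, hx', ← hc, hts]
        exact hc.symm
      · intro hy
        have hy' : (ConnectedComponents.mk y : J) = c := hy
        refine ⟨h y, ?_, hgh y⟩
        change (ConnectedComponents.mk (h y) : J) = c
        rw [← hs, hy', hc]
    obtain ⟨x, hx⟩ := ConnectedComponents.surjective_coe c
    have h2 := clopen_stable a (U c) (hU c) h1 ⟨x, hx⟩
    apply hX
    have h3 : connectedComponent x = Set.univ := by
      rw [← connectedComponents_preimage_singleton, hx]
      exact h2
    have h4 : PreconnectedSpace X := ⟨h3 ▸ isPreconnected_connectedComponent⟩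
    exact { toPreconnectedSpace := h4, toNonempty := hne }
  refine Idem.trace_eq_zero (V := HK K a (FinFr.constLam (ZMod ℓ) X₀) q) (fun c => E a ℓ q (e c)) s hfix ?_ ?_ ?_
    (galK K a (FinFr.arith k K) (FinFr.constLam (ZMod ℓ) X₀) q) ?_
  · intro i j hij v
    apply (theta a ℓ q).injective
    rw [theta_E, theta_E, ← mulH_mul, map_zero]
    have : e i * e j = 0 := by
      apply LocallyConstant.ext
      intro x
      change e i x * e j x = 0
      rw [he, he]
      by_cases h1 : (ConnectedComponents.mk x : J) = i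
      · have h2 : ¬ (ConnectedComponents.mk x : J) = j := fun h2 => hij (h1.symm.trans h2)
        rw [if_neg h2, mul_zero]
      · rw [if_neg h1, zero_mul]
    rw [this, mulH_zero]
  · intro j v
    apply (theta a ℓ q).injective
    rw [theta_E, theta_E, ← mulH_mul]
    have : e j * e j = e j := by
      apply LocallyConstant.ext
      intro x
      change e j x * e j x = e j x
      rw [he]
      split_ifs
      · exact mul_one _
      · exact mul_zero _
    rw [this]
  · intro v
    apply (theta a ℓ q).injective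
    rw [map_sum]
    simp only [theta_E]
    rw [← mulH_sum]
    have : ∑ j, e j = 1 := by
      apply LocallyConstant.ext
      intro x
      have hsum : (∑ j, e j) x = ∑ j, e j x :=
        (congrFun (map_sum (LocallyConstant.coeFnAddMonoidHom (X := X) (Y := A)) e Finset.univ) x).trans
          (Finset.sum_apply _ _ _)
      rw [hsum]
      change ∑ j, e j x = 1
      simp only [he]
      rw [Finset.sum_ite_eq]
      simp
    rw [this, mulH_one]
  · intro j v
    rw [galK_E, hcomap]

end Trace

end K721.Comp2
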