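import Mathlib.LinearAlgebra.Trace
import Mathlib.LinearAlgebra.Dual.Lemmas
import Mathlib.Data.ZMod.Basic

/-!
# Linear algebra of an equivariant duality
-/

set_option autoImplicit false

namespace K721.DualLin

variable {F : Type*} [Field F] {V W L : Type*} [AddCommGroup V] [Module F V] [AddCommGroup W] [Module F W]
  [AddCommGroup L] [Module F L]

/-- The trace of the transposed endomorphism. -/
theorem trace_dual (e : V →ₗ[F] (W →ₗ[F] L)) (he : Function.Bijective e) (l : L ≃ₗ[F] F)
    (φV : V →ₗ[F] V) (φW ψW : W →ₗ[F] W) (c : F) (h : ∀ v w, c • e v w = e (φV v) (φW w))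
    (hψ : ∀ w, φW (ψW w) = w) : LinearMap.trace F V φV = c * LinearMap.trace F W ψW := by
  let e' : V ≃ₗ[F] Module.Dual F W :=
    (LinearEquiv.ofBijective e he).trans (LinearEquiv.congrRight l)
  have he' : ∀ v w, e' v w = l (e v w) := fun v w => rfl
  have key : e'.conj φV = c • Module.Dual.transpose (R := F) ψW := by
    ext f w
    obtain ⟨v, rfl⟩ := e'.surjective f
    rw [LinearEquiv.conj_apply_apply, LinearEquiv.symm_apply_apply, he', LinearMap.smul_apply,
      LinearMap.smul_apply, Module.Dual.transpose_apply]
    change l (e (φV v) w) = c • l (e v (ψW w))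
    conv_lhs => rw [← hψ w]
    rw [← h, map_smul]
  have h1 : LinearMap.trace F V φV = c * LinearMap.trace F (Module.Dual F W) (Module.Dual.transpose (R := F) ψW) := by
    rw [← LinearMap.trace_conj' φV e', key, map_smul, smul_eq_mul]
  rw [h1]
  by_cases hW : Module.Finite F W
  · rw [LinearMap.trace_transpose']
  · have h2 : ¬ ∃ s : Finset W, Nonempty (Module.Basis s F W) := by
      rintro ⟨s, ⟨b⟩⟩
      exact hW (Module.Finite.of_basis b)
    have h3 : ¬ ∃ s : Finset (Module.Dual F W), Nonempty (Module.Basis s F (Module.Dual F W)) := by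
      rintro ⟨s, ⟨b⟩⟩
      have : Module.Finite F (Module.Dual F W) := Module.Finite.of_basis b
      exact hW ((Module.finite_dual_iff F).1 this)
    rw [LinearMap.trace, dif_neg h3, LinearMap.trace, dif_neg h2]
    simp

end K721.DualLin
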