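import Groth.Agent.FinFr.K721.DualTr2
import Groth.Agent.Lefpen.H710.Vanish
import Groth.Agent.Sga4B.DualCdX
import Groth.Agent.Sga4h.H616.TrConst
import Groth.Agent.Sga4h.H915.RatFix

/-!
# The alternating trace of the arithmetic Frobenius on `H^*(X, ℤ/ℓ)`
-/

set_option autoImplicit false
universe u
open CategoryTheory CategoryTheory.Limits CategoryTheory.Abelian AlgebraicGeometry Opposite
open Groth.Agent Groth.Agent.Sga4h.H925.Defs Groth.Agent.Sga4h.H513.LocFin Groth.Agent.Etcore.EtInst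
open scoped Groth.Agent.Etcore.EtInst

namespace K721.DualSum

open EqDual DualTr2

/-- The trace formula for constant coefficients. -/
def TrFor (k K : Type u) [Field k] [Fintype k] [Field K] [Algebra k K] [Algebra.IsAlgebraic k K]
    [Fact FinFr.PullExact.{u}] {X₀ P₀ : Scheme.{u}} (a : X₀ ⟶ Spec (CommRingCat.of k)) (j : X₀ ⟶ P₀)
    [IsOpenImmersion j] (b : P₀ ⟶ Spec (CommRingCat.of k)) (ℓ : ℕ) [Fact ℓ.Prime] : Prop :=
  ∑ᶠ x : FinFr.RatPt a, FinFr.locTrace (K := K) x.1 (FinFr.constLam (ZMod ℓ) X₀) =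
    ∑ᶠ i : ℕ, (-1 : ZMod ℓ) ^ i * LinearMap.trace (ZMod ℓ) _ (FinFr.frobC (K := K) j b (FinFr.constLam (ZMod ℓ) X₀) i)

section Sub

variable {k K : Type u} [Field k] [Field K] [Algebra k K]
  {X₀ P₀ : Scheme.{u}} (a : X₀ ⟶ Spec (CommRingCat.of k))
  (b : P₀ ⟶ Spec (CommRingCat.of k)) (j₀ : X₀ ⟶ P₀) [IsOpenImmersion j₀] (hj : j₀ ≫ b = a) (n : ℕ)

theorem subsingleton_HK_const (q : ℕ) (h : Subsingleton (EtCoh.H (FinFr.ext K a) (EtCoh.const _ (ZMod n)) q)) :
    Subsingleton (HK K a (FinFr.constLam (ZMod n) X₀) q) := by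
  have h' : Subsingleton (HH (FinFr.ext K a) (EtCoh.const _ (ZMod n)) q) := h
  exact ((Sga4h.H923.ToHH.toHH (EtLam.pullback (FinFr.extπ K a) (FinFr.constLam (ZMod n) X₀)) q).trans
    (Sga4h.H915.DictConst.HHequiv (EtCore.pullConst (FinFr.extπ K a) (ZMod n)) q)).toEquiv.subsingleton

/-- `π⁻¹ (j₀)_! Λ ≅ j_! Λ`. -/
noncomputable def rho' : (EtCoh.pull (FinFr.extπ K b)).obj (F₀ j₀ n) ≅
    (EtShriek.extZero (jK (K := K) a b j₀ hj)).obj (EtCoh.const (FinFr.ext K a) (ZMod n)) :=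
  ((Etcore.ShriekBaseChange.extZeroBaseChange j₀ (FinFr.extπ K b) (jK (K := K) a b j₀ hj) (FinFr.extπ K a)
    (isPullback_jK a b j₀ hj)).symm.app (EtCoh.const X₀ (ZMod n))) ≪≫
    (EtShriek.extZero (jK (K := K) a b j₀ hj)).mapIso (EtCore.pullConst (FinFr.extπ K a) (ZMod n))

include hj in
theorem subsingleton_HK_ext (m : ℕ) (h : Subsingleton (EtCoh.H (FinFr.ext K b)
      ((EtShriek.extZero (jK (K := K) a b j₀ hj)).obj (EtCoh.const (FinFr.ext K a) (ZMod n))) m)) :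
    Subsingleton (HK K b (FinFr.extZeroLam j₀ (FinFr.constLam (ZMod n) X₀)) m) := by
  have h' : Subsingleton (HH (FinFr.ext K b)
      ((EtShriek.extZero (jK (K := K) a b j₀ hj)).obj (EtCoh.const (FinFr.ext K a) (ZMod n))) m) := h
  exact ((Sga4h.H923.ToHH.toHH (EtLam.pullback (FinFr.extπ K b) (FinFr.extZeroLam j₀ (FinFr.constLam (ZMod n) X₀))) m).trans
    (Sga4h.H915.DictConst.HHequiv (rho' a b j₀ hj n) m)).toEquiv.subsingleton

end Sub

variable {k K : Type u} [Field k] [Fintype k] [Field K] [Algebra k K] [Algebra.IsAlgebraic k K] [IsAlgClosed K]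
  [Fact FinFr.PullExact.{u}] {X₀ P₀ : Scheme.{u}} (a : X₀ ⟶ Spec (CommRingCat.of k))
  (b : P₀ ⟶ Spec (CommRingCat.of k)) (j₀ : X₀ ⟶ P₀) [IsOpenImmersion j₀] (hj : j₀ ≫ b = a)
  [ConnectedSpace (FinFr.ext K a)] [IsProper b] (d : ℕ) [SmoothOfRelativeDimension d a]
  (ℓ : ℕ) [Fact ℓ.Prime] (hℓ : (ℓ : k) ≠ 0) [QuasiCompact a]

theorem finsum_reflect {F : Type*} [CommRing F] (N : ℕ) (hN : Even N) (f g : ℕ → F) (c : F)
    (hf : ∀ q, N < q → f q = 0) (hg : ∀ q, N < q → g q = 0) (h : ∀ q m, m + q = N → f q = c * g m) :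
    ∑ᶠ i : ℕ, (-1 : F) ^ i * f i = c * ∑ᶠ i : ℕ, (-1 : F) ^ i * g i := by
  have h1 : ∀ (f : ℕ → F), (∀ q, N < q → f q = 0) → ∑ᶠ i : ℕ, (-1 : F) ^ i * f i =
      ∑ i ∈ Finset.range (N + 1), (-1 : F) ^ i * f i := by
    intro f hf
    refine finsum_eq_sum_of_support_subset _ ?_
    intro i hi
    rw [Function.mem_support] at hi
    rw [Finset.coe_range, Set.mem_Iio]
    by_contra hlt
    exact hi (by rw [hf i (by omega), mul_zero])
  rw [h1 f hf, h1 g hg, ← Finset.sum_range_reflect, Finset.mul_sum]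
  refine Finset.sum_congr rfl fun i hi => ?_
  rw [Finset.mem_range] at hi
  have e1 : N + 1 - 1 - i = N - i := by omega
  rw [e1, h (N - i) i (by omega)]
  have e2 : (-1 : F) ^ (N - i) = (-1) ^ i := by
    have h2 : (-1 : F) ^ (N - i) * (-1) ^ i = 1 := by
      rw [← pow_add, Nat.sub_add_cancel (by omega), hN.neg_one_pow]
    have h3 : (-1 : F) ^ i * (-1) ^ i = 1 := by rw [← mul_pow]; simp
    calc (-1 : F) ^ (N - i) = (-1) ^ (N - i) * ((-1) ^ i * (-1) ^ i) := by rw [h3, mul_one]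
      _ = (-1) ^ i := by rw [← mul_assoc, h2, one_mul]
  rw [e2]
  ring

include hℓ in
omit [Fintype k] [Algebra.IsAlgebraic k K] [IsAlgClosed K] [Fact ℓ.Prime] in
theorem cast_ne : (ℓ : K) ≠ 0 := by
  rw [← map_natCast (algebraMap k K) ℓ]
  exact fun h => hℓ ((algebraMap k K).injective (h.trans (map_zero _).symm))

theorem trace_sub {V : Type*} [AddCommGroup V] [Module (ZMod ℓ) V] [Subsingleton V] (f : V →ₗ[ZMod ℓ] V) :
    LinearMap.trace (ZMod ℓ) V f = 0 := by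
  have : f = 0 := Subsingleton.elim _ _
  rw [this, map_zero]

include hj hℓ in
/-- **The alternating trace of the arithmetic Frobenius.** -/
theorem sum_eq (hT : TrFor k K a j₀ b ℓ) (c : ZMod ℓ) (hc : IsTop b j₀ ℓ (FinFr.arith k K) (2 * d) c) :
    ∑ᶠ i : ℕ, (-1 : ZMod ℓ) ^ i * LinearMap.trace (ZMod ℓ) _
        (FinFr.galLin (K := K) a (FinFr.arith k K) (FinFr.constLam (ZMod ℓ) X₀) i) =
      c * (Nat.card (FinFr.RatPt a) : ZMod ℓ) := by
  have hK : (ℓ : K) ≠ 0 := cast_ne ℓ hℓ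
  have hsm : Smooth a := SmoothOfRelativeDimension.smooth d a
  have hfin := Sga4h.H915.RatFix.finite_ratPt k a
  have hpos : 0 < ℓ := (Fact.out : ℓ.Prime).pos
  rw [← Sga4h.H616.TrConst.loc_const (K := K) (Λ := ZMod ℓ) a, hT]
  refine finsum_reflect (2 * d) (even_two_mul d) _ _ c ?_ ?_ ?_
  · intro q hq
    have hsm2 : SmoothOfRelativeDimension d (FinFr.extStr K a) :=
      (smoothOfRelativeDimension_isStableUnderBaseChange d).of_isPullback
        (IsPullback.of_hasPullback a (FinFr.specι k K)) ‹SmoothOfRelativeDimension d a›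
    have h1 := Lefpen.H710.Vanish.subsingleton_H K d (FinFr.extStr K a) ℓ hpos q hq
    have h2 : Subsingleton (HK K a (FinFr.constLam (ZMod ℓ) X₀) q) :=
      subsingleton_HK_const a ℓ q h1
    exact trace_sub ℓ (V := HK K a (FinFr.constLam (ZMod ℓ) X₀) q) _
  · intro m hm
    have h2 : Subsingleton (HK K b (FinFr.extZeroLam j₀ (FinFr.constLam (ZMod ℓ) X₀)) m) := by
      have := smooth_jK (K := K) a b j₀ hj d
      exact subsingleton_HK_ext a b j₀ hj ℓ m (Sga4B.DualCdX.subsingleton_H (FinFr.extStr K b)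
        (jK (K := K) a b j₀ hj) d (EtCoh.const _ (ZMod ℓ))
        (Etrest.ConstBasic.isTorsion_of_killedBy hpos
          (Etrest.ConstBasic.killedBy_const _ (ZMod ℓ) ℓ (fun a => by simp))) m hm)
    exact trace_sub ℓ (V := HK K b (FinFr.extZeroLam j₀ (FinFr.constLam (ZMod ℓ) X₀)) m) _
  · intro q m h
    exact trace_eq a b j₀ hj d ℓ hK (FinFr.arith k K) c hc h

end K721.DualSum
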