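import Groth.Agent.FinFr.K721.DualTrace
import Groth.Agent.Etcore.HpullComp

/-!
# The trace of a Galois element on `H^q(X, ℤ/ℓ)` and on `H^{2d-q}_c(X, ℤ/ℓ)`
-/

set_option autoImplicit false
universe u
open CategoryTheory CategoryTheory.Limits CategoryTheory.Abelian AlgebraicGeometry Opposite
open Groth.Agent Groth.Agent.Etrest.ModAb Groth.Agent.Sga4B
open Groth.Agent.Sga4h.H925.Defs Groth.Agent.Sga4h.H513.LocFin Groth.Agent.Etcore
open Groth.Agent.Etcore.EtInst Groth.Agent.Etcore.PullCoh Groth.Agent.Etcore.HpullCalc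
open scoped Groth.Agent.Etcore.EtInst

namespace K721.DualTr2

open EqDual DualTrace

attribute [local instance] Groth.Agent.S0101.result

variable {k : Type u} [Field k] {K : Type u} [Field K] [Algebra k K] [Fact FinFr.PullExact.{u}]
  {X₀ P₀ : Scheme.{u}} (a : X₀ ⟶ Spec (CommRingCat.of k)) (b : P₀ ⟶ Spec (CommRingCat.of k))
  (j₀ : X₀ ⟶ P₀) [IsOpenImmersion j₀] (hj : j₀ ≫ b = a) (n : ℕ)

/-- `H^m(P, π⁻¹ j_! Λ)` with its module structure. -/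
noncomputable def tP (m : ℕ) : HK K b (FinFr.extZeroLam j₀ (FinFr.constLam (ZMod n) X₀)) m ≃+ HcP (K := K) b j₀ n m :=
  Sga4h.H923.ToHH.toHH (EtLam.pullback (FinFr.extπ K b) (FinFr.extZeroLam j₀ (FinFr.constLam (ZMod n) X₀))) m

theorem tP_gal (σ : K ≃ₐ[k] K) (m : ℕ) (x : HK K b (FinFr.extZeroLam j₀ (FinFr.constLam (ZMod n) X₀)) m) :
    tP b j₀ n m (galK K b σ (FinFr.extZeroLam j₀ (FinFr.constLam (ZMod n) X₀)) m x) =
      galP b j₀ n σ m (tP b j₀ n m x) :=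
  toHH_galK b (FinFr.extZeroLam j₀ (FinFr.constLam (ZMod n) X₀)) σ m x

theorem galP_symm (σ : K ≃ₐ[k] K) (m : ℕ) (x : HK K b (FinFr.extZeroLam j₀ (FinFr.constLam (ZMod n) X₀)) m) :
    galK K b σ (FinFr.extZeroLam j₀ (FinFr.constLam (ZMod n) X₀)) m
      (galK K b σ.symm (FinFr.extZeroLam j₀ (FinFr.constLam (ZMod n) X₀)) m x) = x := by
  apply (tP b j₀ n m).injective
  rw [tP_gal, tP_gal, galP, galP]
  have w : (FinFr.galAct b σ ≫ FinFr.galAct b σ.symm) ≫ FinFr.extπ K b = FinFr.extπ K b := by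
    rw [galAct_symm b σ, Category.id_comp]
  rw [HpVia.hpVia_hpVia (FinFr.galAct b σ) (FinFr.galAct b σ.symm) (FinFr.extπ K b)
    (FinFr.galAct b σ ≫ FinFr.galAct b σ.symm) (FinFr.extπ K b) (FinFr.extπ K b) rfl _ _ w]
  exact hpVia_id (FinFr.extπ K b) _ (galAct_symm b σ) w _ m _

/-- Scalar action of the Galois group on the top cohomology. -/
def IsTop (σ : K ≃ₐ[k] K) (N : ℕ) (c : ZMod n) : Prop :=
  ∀ x : HK K b (FinFr.extZeroLam j₀ (FinFr.constLam (ZMod n) X₀)) N,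
    galK K b σ (FinFr.extZeroLam j₀ (FinFr.constLam (ZMod n) X₀)) N x = c • x

variable [IsAlgClosed K] [ConnectedSpace (FinFr.ext K a)] [IsProper b] (d : ℕ) [SmoothOfRelativeDimension d a]
  (ℓ : ℕ) [Fact ℓ.Prime] (hn : (ℓ : K) ≠ 0)

include hj hn in
theorem exists_top (σ : K ≃ₐ[k] K) : ∃ c : ZMod ℓ, IsTop b j₀ ℓ σ (2 * d) c := by
  obtain ⟨⟨e⟩, -, -⟩ := main (K := K) a b j₀ hj ℓ d hn
  let E : HK K b (FinFr.extZeroLam j₀ (FinFr.constLam (ZMod ℓ) X₀)) (2 * d) ≃+ ZMod ℓ := (tP b j₀ ℓ (2 * d)).trans e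
  let E' : HK K b (FinFr.extZeroLam j₀ (FinFr.constLam (ZMod ℓ) X₀)) (2 * d) ≃ₗ[ZMod ℓ] ZMod ℓ :=
    { E with map_smul' := fun r x => ZMod.map_smul E.toAddMonoidHom r x }
  refine ⟨E' (galK K b σ _ _ (E'.symm 1)), fun x => ?_⟩
  apply E'.injective
  have hx : x = E' x • E'.symm 1 := by
    apply E'.injective
    rw [map_smul, LinearEquiv.apply_symm_apply, smul_eq_mul, mul_one]
  rw [hx, map_smul, map_smul, map_smul, map_smul, LinearEquiv.apply_symm_apply, smul_eq_mul, smul_eq_mul,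
    smul_eq_mul, mul_one, mul_comm]

include hj hn in
/-- **The traces of a Galois element on `H^q(X, ℤ/ℓ)` and `H^{2d-q}_c(X, ℤ/ℓ)`.** -/
theorem trace_eq (σ : K ≃ₐ[k] K) (c : ZMod ℓ) (hc : IsTop b j₀ ℓ σ (2 * d) c) {q m : ℕ} (h : m + q = 2 * d) :
    LinearMap.trace (ZMod ℓ) _ (galK K a σ (FinFr.constLam (ZMod ℓ) X₀) q) =
      c * LinearMap.trace (ZMod ℓ) _ (galK K b σ.symm (FinFr.extZeroLam j₀ (FinFr.constLam (ZMod ℓ) X₀)) m) := by
  obtain ⟨⟨e⟩, h2, h3⟩ := main (K := K) a b j₀ hj ℓ d hn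
  let E : HK K b (FinFr.extZeroLam j₀ (FinFr.constLam (ZMod ℓ) X₀)) (2 * d) ≃+ ZMod ℓ := (tP b j₀ ℓ (2 * d)).trans e
  let E' : HK K b (FinFr.extZeroLam j₀ (FinFr.constLam (ZMod ℓ) X₀)) (2 * d) ≃ₗ[ZMod ℓ] ZMod ℓ :=
    { E with map_smul' := fun r x => ZMod.map_smul E.toAddMonoidHom r x }
  let W := HK K b (FinFr.extZeroLam j₀ (FinFr.constLam (ZMod ℓ) X₀)) m
  let L := HK K b (FinFr.extZeroLam j₀ (FinFr.constLam (ZMod ℓ) X₀)) (2 * d)
  let V := HK K a (FinFr.constLam (ZMod ℓ) X₀) q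
  let B₀ : V →+ (W →+ L) := AddMonoidHom.mk' (fun v =>
      ((tP b j₀ ℓ (2 * d)).symm.toAddMonoidHom.comp (D a b j₀ hj ℓ h (tX a ℓ q v))).comp
        (tP b j₀ ℓ m).toAddMonoidHom) (fun v v' => by
          ext w
          change (tP b j₀ ℓ (2 * d)).symm (D a b j₀ hj ℓ h (tX a ℓ q (v + v')) (tP b j₀ ℓ m w)) =
            (tP b j₀ ℓ (2 * d)).symm (D a b j₀ hj ℓ h (tX a ℓ q v) (tP b j₀ ℓ m w)) +
            (tP b j₀ ℓ (2 * d)).symm (D a b j₀ hj ℓ h (tX a ℓ q v') (tP b j₀ ℓ m w))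
          rw [map_add, map_add, AddMonoidHom.add_apply, map_add])
  let B : V →ₗ[ZMod ℓ] (W →ₗ[ZMod ℓ] L) :=
    AddMonoidHom.toZModLinearMap ℓ (AddMonoidHom.mk' (fun v => AddMonoidHom.toZModLinearMap ℓ (B₀ v)) (fun v v' => by
      ext w
      change B₀ (v + v') w = B₀ v w + B₀ v' w
      rw [map_add, AddMonoidHom.add_apply]))
  have hB : ∀ v w, B v w = (tP b j₀ ℓ (2 * d)).symm (D a b j₀ hj ℓ h (tX a ℓ q v) (tP b j₀ ℓ m w)) := fun v w => rfl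
  refine DualLin.trace_dual B ?_ E' _ (galK K b σ _ m) _ c ?_ (galP_symm b j₀ ℓ σ m)
  · constructor
    · intro v v' hv
      apply (tX a ℓ q).injective
      apply (h2 q m h).1
      ext w
      obtain ⟨w, rfl⟩ := (tP b j₀ ℓ m).surjective w
      apply (tP b j₀ ℓ (2 * d)).symm.injective
      exact LinearMap.congr_fun hv w
    · intro f
      obtain ⟨y, hy⟩ := (h2 q m h).2 (((tP b j₀ ℓ (2 * d)).toAddMonoidHom.comp f.toAddMonoidHom).comp
        (tP b j₀ ℓ m).symm.toAddMonoidHom)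
      obtain ⟨v, rfl⟩ := (tX a ℓ q).surjective y
      refine ⟨v, ?_⟩
      ext w
      rw [hB, hy]
      change (tP b j₀ ℓ (2 * d)).symm (tP b j₀ ℓ (2 * d) (f ((tP b j₀ ℓ m).symm (tP b j₀ ℓ m w)))) = f w
      rw [AddEquiv.symm_apply_apply, AddEquiv.symm_apply_apply]
  · intro v w
    rw [← hc, hB, hB, tX_gal, tP_gal, ← h3]
    apply (tP b j₀ ℓ (2 * d)).injective
    rw [tP_gal, AddEquiv.apply_symm_apply, AddEquiv.apply_symm_apply]

end K721.DualTr2
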