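import Groth.Agent.FinFr.K721.EqDual
import Groth.Agent.FinFr.K721.DualLin
import Groth.Agent.Sga4h.H513.LocFin
import Groth.Agent.Sga4h.H923.ToHH

/-!
# The trace of a Galois element on `H^q(X, ℤ/ℓ)` and on `H^{2d-q}_c(X, ℤ/ℓ)`
-/

set_option autoImplicit false
universe u
open CategoryTheory CategoryTheory.Limits CategoryTheory.Abelian AlgebraicGeometry Opposite
open Groth.Agent Groth.Agent.Etrest.ModAb Groth.Agent.Sga4B Groth.Agent.Sga4h.BidGlobPkg
open Groth.Agent.Sga4B.DualAsm Groth.Agent.Sga4h.H914 Groth.Agent.Sga4h.H915.DictConst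
open Groth.Agent.Etcore.EtInst Groth.Agent.Etcore.HpullCalc Groth.Agent.Etcore.PullCoh Groth.Agent.Etcore
open Groth.Agent.Sga4h.H925.Defs Groth.Agent.Sga4h.H513.LocFin
open scoped Groth.Agent.Etcore.EtInst Groth.Agent.Sga4B.ModEtInst

namespace K721.DualTrace

open EqDual

attribute [local instance] Groth.Agent.S0101.result

section X

variable {k : Type u} [Field k] {K : Type u} [Field K] [Algebra k K] [Fact FinFr.PullExact.{u}]
  {X₀ : Scheme.{u}} (a : X₀ ⟶ Spec (CommRingCat.of k)) (n : ℕ)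

omit [Fact FinFr.PullExact.{u}] in
/-- The comparison of `H^q(X, π⁻¹ Λ)` with `Ext^q(Λ, Λ)`. -/
noncomputable def tX (q : ℕ) : HK K a (FinFr.constLam (ZMod n) X₀) q ≃+
    Sga5.H861.Res.R (LMLS.Lam.{u} n) (FinFr.ext K a) q :=
  (Sga4h.H923.ToHH.toHH (EtLam.pullback (FinFr.extπ K a) (FinFr.constLam (ZMod n) X₀)) q).trans
    ((HHequiv (EtCore.pullConst (FinFr.extπ K a) (ZMod n)) q).trans (cmpC q).symm)

theorem toHH_galK {P : Scheme.{u}} (b : P ⟶ Spec (CommRingCat.of k)) {Λ : Type} [CommRing Λ] (M : EtLam.Sheaf Λ P)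
    (σ : K ≃ₐ[k] K) (i : ℕ) (x : HK K b M i) :
    Sga4h.H923.ToHH.toHH (EtLam.pullback (FinFr.extπ K b) M) i (galK K b σ M i x) =
      hpVia (FinFr.galAct b σ) (FinFr.extπ K b) (FinFr.extπ K b)
        (FinFr.galAct_fst b σ) M.carrier i (Sga4h.H923.ToHH.toHH (EtLam.pullback (FinFr.extπ K b) M) i x) := rfl

omit [Fact FinFr.PullExact.{u}] in
theorem via_const {Y X : Scheme.{u}} (g : X ⟶ X) (π : X ⟶ Y) (w : g ≫ π = π) (M : Type) [AddCommGroup M] (q : ℕ)
    (y : HH X ((EtCoh.pull π).obj (EtCoh.const Y M)) q) :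
    HHmap (EtCore.pullConst π M).hom q (hpVia g π π w (EtCoh.const Y M) q y) =
      HHmap (EtCore.pullConst g M).hom q (hp g _ q (HHmap (EtCore.pullConst π M).hom q y)) := by
  rw [HpVia.hpVia_eq, hp_map, ← HHmap_comp, ← HHmap_comp, pullConst_comp g π π w M]

/-- The comparison for the constant sheaf. -/
noncomputable def tC (q : ℕ) : HH (FinFr.ext K a) ((EtCoh.pull (FinFr.extπ K a)).obj (EtCoh.const X₀ (ZMod n))) q ≃+
    Sga5.H861.Res.R (LMLS.Lam.{u} n) (FinFr.ext K a) q :=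
  (HHequiv (EtCore.pullConst (FinFr.extπ K a) (ZMod n)) q).trans (cmpC q).symm

omit [Fact FinFr.PullExact.{u}] in
theorem tC_gal (σ : K ≃ₐ[k] K) (q : ℕ)
    (y : HH (FinFr.ext K a) ((EtCoh.pull (FinFr.extπ K a)).obj (EtCoh.const X₀ (ZMod n))) q) :
    tC a n q (hpVia (FinFr.galAct a σ) (FinFr.extπ K a) (FinFr.extπ K a)
        (FinFr.galAct_fst a σ) (EtCoh.const X₀ (ZMod n)) q y) =
      Sga5.H861.Res.res (FinFr.galAct a σ) q (tC a n q y) := by
  apply (cmpC q).injective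
  have h1 : cmpC q (tC a n q (hpVia (FinFr.galAct a σ) (FinFr.extπ K a) (FinFr.extπ K a)
        (FinFr.galAct_fst a σ) (EtCoh.const X₀ (ZMod n)) q y)) =
      HHmap (EtCore.pullConst (FinFr.extπ K a) (ZMod n)).hom q (hpVia (FinFr.galAct a σ) (FinFr.extπ K a)
        (FinFr.extπ K a) (FinFr.galAct_fst a σ) (EtCoh.const X₀ (ZMod n)) q y) :=
    (cmpC q).apply_symm_apply _
  have h2 : cmpC q (tC a n q y) = HHmap (EtCore.pullConst (FinFr.extπ K a) (ZMod n)).hom q y :=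
    (cmpC q).apply_symm_apply _
  refine h1.trans ?_
  refine Eq.trans ?_ (cmpC_res (FinFr.galAct a σ) q (tC a n q y)).symm
  rw [h2]
  exact via_const (FinFr.galAct a σ) (FinFr.extπ K a) (FinFr.galAct_fst a σ) (ZMod n) q y

theorem tX_gal (σ : K ≃ₐ[k] K) (q : ℕ) (x : HK K a (FinFr.constLam (ZMod n) X₀) q) :
    tX a n q (galK K a σ (FinFr.constLam (ZMod n) X₀) q x) =
      Sga5.H861.Res.res (FinFr.galAct a σ) q (tX a n q x) :=
  (congrArg (tC a n q) (toHH_galK a (FinFr.constLam (ZMod n) X₀) σ q x)).trans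
    (tC_gal a n σ q (Sga4h.H923.ToHH.toHH (EtLam.pullback (FinFr.extπ K a) (FinFr.constLam (ZMod n) X₀)) q x))

end X

end K721.DualTrace
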