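import Groth.Agent.Sga4h.H914.AbsRes
import Groth.Agent.Etcore.ExtMap

/-!
# Equivariance of the Yoneda pairing, abstract form

`Ψ : A ⥤ B`, `GA : A ⥤ A`, `GB : B ⥤ B` exact, `β : Ψ ⋙ GB ≅ GA ⋙ Ψ`, `θ : GA T ≅ T`, `ξ : GB (Ψ T) ≅ Ψ T` differing from
`β_T ≫ Ψ θ` by a scalar.  Then `res GB ζ ξ (w · Ψ e) = res GB ζ ξ w · Ψ (res GA θ θ e)`.
-/

set_option autoImplicit false

universe w w' v v' u u'

open CategoryTheory CategoryTheory.Limits CategoryTheory.Abelian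
open Groth.Agent.Sga4h.H914.AbsRes Groth.Agent.Etcore.ExtAdj

namespace K721.EqAbs

section Smul

variable {A : Type u} [Category.{v} A] [Abelian A] [HasExt.{w} A]

theorem comp_zsmul {X Y Z : A} {a b c : ℕ} (h : a + b = c) (x : Ext.{w} X Y a) (y : Ext.{w} Y Z b) (z : ℤ) :
    x.comp (z • y) h = z • x.comp y h :=
  map_zsmul (x.precomp Z h) z y

theorem zsmul_comp {X Y Z : A} {a b c : ℕ} (h : a + b = c) (x : Ext.{w} X Y a) (y : Ext.{w} Y Z b) (z : ℤ) :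
    (z • x).comp y h = z • x.comp y h :=
  map_zsmul (y.postcomp X h) z x

theorem mk₀_zsmul {X Y : A} (f : X ⟶ Y) (z : ℤ) : Ext.mk₀ (z • f) = z • (Ext.mk₀ f : Ext.{w} X Y 0) :=
  map_zsmul (Ext.addEquiv₀.symm) z f

end Smul

variable {A : Type u} [Category.{v} A] [Abelian A] [HasExt.{w} A]
variable {B : Type u'} [Category.{v'} B] [Abelian B] [HasExt.{w'} B]

section Conj

variable (GA : A ⥤ B) [GA.Additive] [PreservesFiniteLimits GA] [PreservesFiniteColimits GA]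

/-- Conjugation by a scalar does nothing. -/
theorem res_scalar {S : A} {T : B} (θ θ' : GA.obj S ≅ T) (z : ℤ) (h : θ'.hom = z • θ.hom) (q : ℕ)
    (e : Ext.{w} S S q) : res GA θ' θ' q e = res GA θ θ q e := by
  have h2 : θ.inv = z • θ'.inv := by
    rw [← cancel_epi θ.hom, Iso.hom_inv_id, Preadditive.comp_zsmul, ← Preadditive.zsmul_comp, ← h,
      Iso.hom_inv_id]
  rw [res_apply, res_apply, h, h2, mk₀_zsmul, mk₀_zsmul, comp_zsmul, zsmul_comp, zsmul_comp]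

end Conj

section Main

variable [EnoughInjectives A]
variable (Ψ : A ⥤ B) [Ψ.Additive] [PreservesFiniteLimits Ψ] [PreservesFiniteColimits Ψ] [Ψ.Full] [Ψ.Faithful]
variable (GA : A ⥤ A) [GA.Additive] [PreservesFiniteLimits GA] [PreservesFiniteColimits GA]
variable (GB : B ⥤ B) [GB.Additive] [PreservesFiniteLimits GB] [PreservesFiniteColimits GB]
variable [EnoughInjectives B]

/-- Compatibility of `res` with `Ψ`. -/
theorem res_Psi (β : Ψ ⋙ GB ≅ GA ⋙ Ψ) {T : A} (θ : GA.obj T ≅ T)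
    (q : ℕ) (e : Ext.{w} T T q) :
    res GB (show GB.obj (Ψ.obj T) ≅ Ψ.obj T from β.app T ≪≫ Ψ.mapIso θ)
      (show GB.obj (Ψ.obj T) ≅ Ψ.obj T from β.app T ≪≫ Ψ.mapIso θ) q (e.mapExactFunctor Ψ) =
      (res GA θ θ q e).mapExactFunctor Ψ := by
  have i1 : (Ψ ⋙ GB).Additive := inferInstance
  have i2 : PreservesFiniteLimits (Ψ ⋙ GB) := comp_preservesFiniteLimits _ _
  have i3 : PreservesFiniteColimits (Ψ ⋙ GB) := comp_preservesFiniteColimits _ _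
  have i4 : (GA ⋙ Ψ).Additive := inferInstance
  have i5 : PreservesFiniteLimits (GA ⋙ Ψ) := comp_preservesFiniteLimits _ _
  have i6 : PreservesFiniteColimits (GA ⋙ Ψ) := comp_preservesFiniteColimits _ _
  have h1 := res_res Ψ GB (Iso.refl (Ψ.obj T)) (Iso.refl (Ψ.obj T))
    (show GB.obj (Ψ.obj T) ≅ Ψ.obj T from β.app T ≪≫ Ψ.mapIso θ)
    (show GB.obj (Ψ.obj T) ≅ Ψ.obj T from β.app T ≪≫ Ψ.mapIso θ) q e
  have h2 := res_res GA Ψ θ θ (Iso.refl (Ψ.obj T)) (Iso.refl (Ψ.obj T)) q e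
  have r1 : res Ψ (Iso.refl (Ψ.obj T)) (Iso.refl (Ψ.obj T)) q e = e.mapExactFunctor Ψ := by
    rw [res_apply]
    simp only [Iso.refl_inv, Iso.refl_hom]
    rw [Ext.comp_mk₀_id]
    exact Ext.mk₀_id_comp _
  have r2 : res Ψ (Iso.refl (Ψ.obj T)) (Iso.refl (Ψ.obj T)) q (res GA θ θ q e) =
      (res GA θ θ q e).mapExactFunctor Ψ := by
    rw [res_apply]
    simp only [Iso.refl_inv, Iso.refl_hom]
    rw [Ext.comp_mk₀_id]
    exact Ext.mk₀_id_comp _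
  rw [r1] at h1
  rw [r2] at h2
  rw [h1, h2]
  exact res_congr β.hom _ _ _ _ (by simp) (by simp) q e

/-- **Equivariance of the Yoneda pairing.** -/
theorem res_pairing (β : Ψ ⋙ GB ≅ GA ⋙ Ψ) {T : A} (hT : ∀ f : T ⟶ T, ∃ z : ℤ, f = z • 𝟙 T)
    (θ : GA.obj T ≅ T) {ZB : B} (ζ : GB.obj ZB ≅ ZB) (ξ : GB.obj (Ψ.obj T) ≅ Ψ.obj T)
    {m q N : ℕ} (h : m + q = N) (w : Ext.{w'} ZB (Ψ.obj T) m) (e : Ext.{w} T T q) :
    res GB ζ ξ N (w.comp (e.mapExactFunctor Ψ) h) =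
      (res GB ζ ξ m w).comp ((res GA θ θ q e).mapExactFunctor Ψ) h := by
  rw [res_comp GB ζ ξ ξ h, ← res_Psi Ψ GA GB β θ q e]
  congr 1
  obtain ⟨f, hf⟩ := Ψ.map_surjective
    ((show GB.obj (Ψ.obj T) ≅ Ψ.obj T from β.app T ≪≫ Ψ.mapIso θ).inv ≫ ξ.hom)
  obtain ⟨z, rfl⟩ := hT f
  refine res_scalar GB _ ξ z ?_ q _
  rw [Iso.eq_inv_comp] at hf
  rw [← hf, Functor.map_zsmul, CategoryTheory.Functor.map_id, Preadditive.comp_zsmul, Category.comp_id]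

end Main

section Pairing

variable [EnoughInjectives A] [EnoughInjectives B]
variable (Ψ : A ⥤ B) [Ψ.Additive] [PreservesFiniteLimits Ψ] [PreservesFiniteColimits Ψ] [Ψ.Full] [Ψ.Faithful]

/-- The duality map, transported to an isomorphic object `M` of `B`. -/
noncomputable def pair {T : A} {ZB M : B} (ρ : M ≅ Ψ.obj T) {m q N : ℕ} (h : m + q = N) :
    Ext.{w} T T q →+ (Ext.{w'} ZB M m →+ Ext.{w'} ZB M N) :=
  AddMonoidHom.mk' (fun e => (((Ext.mk₀ ρ.inv).postcomp ZB (add_zero N)).comp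
      ((e.mapExactFunctor Ψ).postcomp ZB h)).comp ((Ext.mk₀ ρ.hom).postcomp ZB (add_zero m)))
    (fun a b => by
      ext x
      change ((x.comp (Ext.mk₀ ρ.hom) (add_zero m)).comp (Ψ.mapExtAddHom _ _ q (a + b)) h).comp
          (Ext.mk₀ ρ.inv) (add_zero N) =
        ((x.comp (Ext.mk₀ ρ.hom) (add_zero m)).comp (Ψ.mapExtAddHom _ _ q a) h).comp
          (Ext.mk₀ ρ.inv) (add_zero N) +
        ((x.comp (Ext.mk₀ ρ.hom) (add_zero m)).comp (Ψ.mapExtAddHom _ _ q b) h).comp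
          (Ext.mk₀ ρ.inv) (add_zero N)
      rw [map_add, Ext.comp_add, Ext.add_comp])

omit [EnoughInjectives A] [EnoughInjectives B] [Ψ.Full] [Ψ.Faithful] in
theorem pair_apply {T : A} {ZB M : B} (ρ : M ≅ Ψ.obj T) {m q N : ℕ} (h : m + q = N)
    (e : Ext.{w} T T q) (x : Ext.{w'} ZB M m) :
    pair Ψ ρ h e x = ((x.comp (Ext.mk₀ ρ.hom) (add_zero m)).comp (e.mapExactFunctor Ψ) h).comp
      (Ext.mk₀ ρ.inv) (add_zero N) := rfl

variable (GA : A ⥤ A) [GA.Additive] [PreservesFiniteLimits GA] [PreservesFiniteColimits GA]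
variable (GB : B ⥤ B) [GB.Additive] [PreservesFiniteLimits GB] [PreservesFiniteColimits GB]

/-- **Equivariance of the transported pairing.** -/
theorem res_pair (β : Ψ ⋙ GB ≅ GA ⋙ Ψ) {T : A} (hT : ∀ f : T ⟶ T, ∃ z : ℤ, f = z • 𝟙 T)
    (θ : GA.obj T ≅ T) {ZB M : B} (ρ : M ≅ Ψ.obj T) (ζ : GB.obj ZB ≅ ZB) (ξ : GB.obj M ≅ M)
    {m q N : ℕ} (h : m + q = N) (w : Ext.{w'} ZB M m) (e : Ext.{w} T T q) :
    res GB ζ ξ N (pair Ψ ρ h e w) = pair Ψ ρ h (res GA θ θ q e) (res GB ζ ξ m w) := by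
  let ξ' : GB.obj (Ψ.obj T) ≅ Ψ.obj T := (GB.mapIso ρ).symm ≪≫ ξ ≪≫ ρ
  have key : ∀ (n : ℕ) (x : Ext.{w'} ZB M n),
      (res GB ζ ξ n x).comp (Ext.mk₀ ρ.hom) (add_zero n) =
        res GB ζ ξ' n (x.comp (Ext.mk₀ ρ.hom) (add_zero n)) := by
    intro n x
    rw [res_comp GB ζ ξ ξ' (add_zero n), res_mk₀]
    congr 2
    simp [ξ']
  have key2 : ∀ (n : ℕ) (x : Ext.{w'} ZB (Ψ.obj T) n),
      res GB ζ ξ n (x.comp (Ext.mk₀ ρ.inv) (add_zero n)) =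
        (res GB ζ ξ' n x).comp (Ext.mk₀ ρ.inv) (add_zero n) := by
    intro n x
    rw [res_comp GB ζ ξ' ξ (add_zero n), res_mk₀]
    congr 2
    simp [ξ']
  rw [pair_apply, pair_apply, key2, key, res_pairing Ψ GA GB β hT θ ζ ξ' h]

end Pairing

end K721.EqAbs
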