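import Groth.Agent.FinFr.K721.EqAbs
import Groth.Agent.EtSix.H42.Pairing
import Groth.Agent.Sga4B.PkgB
import Groth.Agent.Sga4h.H923.FrobNat
import Groth.Agent.Sga4h.H914.HR
import Groth.Agent.Etcore.ShriekBaseChange
import Groth.Agent.S0651

/-!
# Galois equivariant Poincaré duality for a smooth scheme over a field, in terms of a compactification over the field

`X₀` smooth over `k`, `X = X₀ ×_k K` connected (`K` algebraically closed), `j₀ : X₀ ⟶ P₀` open, `P₀` proper over `k`.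
-/

set_option autoImplicit false
universe u
open CategoryTheory CategoryTheory.Limits CategoryTheory.Abelian AlgebraicGeometry Opposite
open Groth.Agent Groth.Agent.Etrest.ModAb Groth.Agent.Sga4B Groth.Agent.Sga4h.BidGlobPkg
open Groth.Agent.Sga4B.DualAsm Groth.Agent.Sga4h.H914
open Groth.Agent.Etcore.EtInst Groth.Agent.Etcore.HpullCalc Groth.Agent.Etcore.PullCoh Groth.Agent.Etcore
open scoped Groth.Agent.Etcore.EtInst Groth.Agent.Sga4B.ModEtInst

namespace K721.EqDual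

section Geo

variable {k : Type u} [Field k] {K : Type u} [Field K] [Algebra k K]
  {X₀ : Scheme.{u}} (a : X₀ ⟶ Spec (CommRingCat.of k)) (σ : K ≃ₐ[k] K)

theorem galAct_symm : FinFr.galAct a σ ≫ FinFr.galAct a σ.symm = 𝟙 _ := by
  apply pullback.hom_ext
  · rw [Category.assoc, Category.id_comp]
    erw [FinFr.galAct_fst a σ.symm]
    exact FinFr.galAct_fst a σ
  · rw [Category.assoc, Category.id_comp]
    erw [FinFr.galAct_snd a σ.symm]
    rw [← Category.assoc]
    erw [FinFr.galAct_snd a σ]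
    rw [Category.assoc, ← Spec.map_comp, ← CommRingCat.ofHom_comp]
    have h : ((σ : K →+* K).comp (σ.symm : K →+* K)) = RingHom.id K := by
      ext x
      exact σ.apply_symm_apply x
    rw [h]
    exact (congrArg (fun t => pullback.snd a (FinFr.specι k K) ≫ t) (Spec.map_id _)).trans (Category.comp_id _)

instance isIso_galAct : IsIso (FinFr.galAct a σ) :=
  ⟨FinFr.galAct a σ.symm, galAct_symm a σ, galAct_symm a σ.symm⟩

end Geo

section Sheaf

variable {k : Type u} [Field k] {K : Type u} [Field K] [Algebra k K]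
  {X₀ P₀ : Scheme.{u}} (a : X₀ ⟶ Spec (CommRingCat.of k)) (b : P₀ ⟶ Spec (CommRingCat.of k))
  (j₀ : X₀ ⟶ P₀) [IsOpenImmersion j₀] (hj : j₀ ≫ b = a)

/-- The base changed open immersion. -/
noncomputable abbrev jK : FinFr.ext K a ⟶ FinFr.ext K b := FinFr.extHom K a j₀ hj

theorem isPullback_jK : IsPullback (jK (K := K) a b j₀ hj) (FinFr.extπ K a) (FinFr.extπ K b) j₀ := by
  have h1 : IsPullback (FinFr.extπ K b) (FinFr.extStr K b) b (FinFr.specι k K) :=
    IsPullback.of_hasPullback _ _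
  have h2 : IsPullback (FinFr.extπ K a) (FinFr.extStr K a) (j₀ ≫ b) (FinFr.specι k K) := by
    rw [hj]
    exact IsPullback.of_hasPullback _ _
  have e1 : FinFr.extHom K a j₀ hj ≫ FinFr.extStr K b = FinFr.extStr K a :=
    (pullback.lift_snd _ _ _).trans (Category.comp_id _)
  rw [← e1] at h2
  exact (IsPullback.of_bot h2 (FinFr.extHom_fst a j₀ hj).symm h1).flip

instance isOpenImmersion_jK : IsOpenImmersion (jK (K := K) a b j₀ hj) :=
  MorphismProperty.of_isPullback (isPullback_jK a b j₀ hj).flip ‹IsOpenImmersion j₀›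

theorem isPullback_gal (σ : K ≃ₐ[k] K) :
    IsPullback (jK (K := K) a b j₀ hj) (FinFr.galAct a σ) (FinFr.galAct b σ) (jK (K := K) a b j₀ hj) :=
  IsPullback.of_vert_isIso ⟨Sga4h.H923.FrobNat.galAct_extHom K a b j₀ hj σ⟩

variable (n : ℕ)

/-- The coefficients on `P₀`. -/
noncomputable abbrev F₀ : EtCoh.Ab P₀ := (EtShriek.extZero j₀).obj (EtCoh.const X₀ (ZMod n))

/-- `π⁻¹ (j₀)_! Λ ≅ j_! Λ`. -/
noncomputable def rho : (EtCoh.pull (FinFr.extπ K b)).obj (F₀ j₀ n) ≅
    (Psi (jK (K := K) a b j₀ hj) n).obj (FixPt.unit (LMLS.Lam.{u} n) (FinFr.ext K a)) :=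
  ((ShriekBaseChange.extZeroBaseChange j₀ (FinFr.extπ K b) (jK (K := K) a b j₀ hj) (FinFr.extπ K a)
    (isPullback_jK a b j₀ hj)).symm.app (EtCoh.const X₀ (ZMod n))) ≪≫
    (EtShriek.extZero (jK (K := K) a b j₀ hj)).mapIso (EtCore.pullConst (FinFr.extπ K a) (ZMod n) ≪≫
      (EtSix.H42.TateK.abConst n (FinFr.ext K a)).symm)

/-- `j_!` commutes with the Galois action. -/
noncomputable def beta (σ : K ≃ₐ[k] K) :
    Psi (jK (K := K) a b j₀ hj) n ⋙ EtCoh.pull (FinFr.galAct b σ) ≅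
      EtModW.pull (LMLS.Lam.{u} n) (FinFr.galAct a σ) ⋙ Psi (jK (K := K) a b j₀ hj) n :=
  Functor.associator _ _ _ ≪≫
    Functor.isoWhiskerLeft _ (ShriekBaseChange.extZeroBaseChange (jK (K := K) a b j₀ hj)
      (FinFr.galAct b σ) (jK (K := K) a b j₀ hj) (FinFr.galAct a σ) (isPullback_gal a b j₀ hj σ)).symm ≪≫
    (Functor.associator _ _ _).symm ≪≫
    Functor.isoWhiskerRight (pullIso (LMLS.Lam.{u} n) (FinFr.galAct a σ)).symm _ ≪≫
    Functor.associator _ _ _

end Sheaf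

section FF

variable {X P : Scheme.{u}} (j : X ⟶ P) [IsOpenImmersion j] (n : ℕ)

noncomputable def ffExtZero : (EtShriek.extZero j).FullyFaithful :=
  haveI : IsIso (EtShriek.extZeroAdj j).unit := by
    have : ∀ F, IsIso ((EtShriek.extZeroAdj j).unit.app F) := fun F => (S0651.result j F).2
    exact NatIso.isIso_of_isIso_app _
  (EtShriek.extZeroAdj j).fullyFaithfulLOfIsIsoUnit

theorem full_Psi : (Psi j n).Full :=
  haveI : (EtShriek.extZero j).Full := (ffExtZero j).full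
  haveI := PDKummer.full_ab (n := n) (X := X)
  inferInstanceAs (ab _ X ⋙ EtShriek.extZero j).Full

theorem faithful_Psi : (Psi j n).Faithful :=
  haveI : (EtShriek.extZero j).Faithful := (ffExtZero j).faithful
  inferInstanceAs (ab _ X ⋙ EtShriek.extZero j).Faithful

end FF

section Dual

variable {K : Type u} [Field K] [IsAlgClosed K] {X P : Scheme.{u}} [ConnectedSpace X]
  (b : P ⟶ Spec (CommRingCat.of K)) [IsProper b] (j : X ⟶ P) [IsOpenImmersion j]
  (d : ℕ) [SmoothOfRelativeDimension d (j ≫ b)] (n : ℕ) (hn : (n : K) ≠ 0)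

include hn b in
/-- Poincaré duality as the Yoneda pairing for the constant sheaf. -/
theorem duality_unit :
    Nonempty (Ext.{u + 1} (Z P) ((Psi j n).obj (FixPt.unit (LMLS.Lam.{u} n) X)) (2 * d) ≃+ ZMod n) ∧
    (∀ f : FixPt.unit (LMLS.Lam.{u} n) X ⟶ FixPt.unit (LMLS.Lam.{u} n) X, ∃ z : ℤ, f = z • 𝟙 _) ∧
    (∀ (q m : ℕ) (h : m + q = 2 * d), Function.Bijective
      (fun x : Ext.{u + 1} (FixPt.unit (LMLS.Lam.{u} n) X) (FixPt.unit (LMLS.Lam.{u} n) X) q =>
        ((Psi j n).mapExtAddHom _ _ q x).postcomp (Z P) h)) := by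
  have hn0 : 0 < n := Nat.pos_of_ne_zero fun h => hn (by rw [h, Nat.cast_zero])
  obtain ⟨K', tr, htr, h2, ⟨e⟩⟩ := EtSix.H42.Pairing.duality_tr b j d n hn0 (PkgB.pkg K n hn d)
  obtain ⟨φ⟩ := EtSix.H42.TateK.nonempty_end_const (n := n) (X := X)
  refine ⟨?_, EtSix.H42.TateK.exists_zsmul hn0 φ, ?_⟩
  · let e1 : Ext.{u + 1} (Z P) ((Psi j n).obj (FixPt.unit (LMLS.Lam.{u} n) X)) (2 * d) ≃+
        Ext.{u + 1} (Z P) ((Psi j n).obj K') (2 * d) :=
      AddEquiv.mk' (Equiv.mk (fun y => y.comp (Ext.mk₀ ((Psi j n).map e.hom)) (add_zero _))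
        (fun y => y.comp (Ext.mk₀ ((Psi j n).map e.inv)) (add_zero _))
        (fun y => by
          dsimp only
          rw [Ext.comp_assoc_of_third_deg_zero, Ext.mk₀_comp_mk₀, ← Functor.map_comp, e.hom_inv_id,
            CategoryTheory.Functor.map_id, Ext.comp_mk₀_id])
        (fun y => by
          dsimp only
          rw [Ext.comp_assoc_of_third_deg_zero, Ext.mk₀_comp_mk₀, ← Functor.map_comp, e.inv_hom_id,
            CategoryTheory.Functor.map_id, Ext.comp_mk₀_id]))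
        (fun x y => Ext.add_comp _ _ _ (add_zero _))
    exact ⟨e1.trans ((AddEquiv.ofBijective tr htr).trans AddEquiv.ulift)⟩
  · intro q m h
    refine EtSix.H42.Pairing.bijective_congr (Psi j n) (Z P) e h ?_
    have h3 := h2 q m h (FixPt.unit (LMLS.Lam.{u} n) X)
    have key : ∀ e' : Ext.{u + 1} (FixPt.unit (LMLS.Lam.{u} n) X) K' q,
        DualFormal.phi (Psi j n) (Z P) tr (FixPt.unit (LMLS.Lam.{u} n) X) h e' =
          tr.comp (((Psi j n).mapExtAddHom _ _ q e').postcomp (Z P) h) := fun e' => rfl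
    constructor
    · intro x y hxy
      apply h3.1
      rw [key, key]
      exact congrArg (fun t => tr.comp t) hxy
    · intro f
      obtain ⟨e', he'⟩ := h3.2 (tr.comp f)
      refine ⟨e', ?_⟩
      rw [key] at he'
      ext y
      exact htr.1 (DFunLike.congr_fun he' y)

end Dual

section Eq

attribute [local instance] Groth.Agent.S0101.result

variable {k : Type u} [Field k] {K : Type u} [Field K] [Algebra k K]
  {X₀ P₀ : Scheme.{u}} (a : X₀ ⟶ Spec (CommRingCat.of k)) (b : P₀ ⟶ Spec (CommRingCat.of k))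
  (j₀ : X₀ ⟶ P₀) [IsOpenImmersion j₀] (hj : j₀ ≫ b = a) (n : ℕ)

/-- `H^m_c(X, Λ)` computed on `P`. -/
noncomputable abbrev HcP (m : ℕ) : Type (u + 1) :=
  HH (FinFr.ext K b) ((EtCoh.pull (FinFr.extπ K b)).obj (F₀ j₀ n)) m

/-- The Galois action on `H^m_c(X, Λ)`. -/
noncomputable def galP (σ : K ≃ₐ[k] K) (m : ℕ) : HcP (K := K) b j₀ n m →+ HcP (K := K) b j₀ n m :=
  hpVia (FinFr.galAct b σ) (FinFr.extπ K b) (FinFr.extπ K b) (FinFr.galAct_fst b σ) (F₀ j₀ n) m

theorem galP_eq (σ : K ≃ₐ[k] K) (m : ℕ) (x : HcP (K := K) b j₀ n m) :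
    galP b j₀ n σ m x = AbsRes.res (EtCoh.pull (FinFr.galAct b σ)) (EtCore.pullConst (FinFr.galAct b σ) ℤ)
      (asIso (th (FinFr.galAct b σ) (FinFr.extπ K b) (FinFr.extπ K b) (FinFr.galAct_fst b σ) (F₀ j₀ n))) m x := by
  rw [galP, HpVia.hpVia_eq]
  rfl

/-- The pairing `H^q(X, Λ) × H^m_c(X, Λ) → H^N_c(X, Λ)`. -/
noncomputable def D {q m N : ℕ} (h : m + q = N) :
    Sga5.H861.Res.R (LMLS.Lam.{u} n) (FinFr.ext K a) q →+ (HcP (K := K) b j₀ n m →+ HcP (K := K) b j₀ n N) :=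
  EqAbs.pair (Psi (jK (K := K) a b j₀ hj) n) (rho a b j₀ hj n) h

/-- **Galois equivariance of the pairing.** -/
theorem gal_D (hT : ∀ f : FixPt.unit (LMLS.Lam.{u} n) (FinFr.ext K a) ⟶ FixPt.unit (LMLS.Lam.{u} n) (FinFr.ext K a),
    ∃ z : ℤ, f = z • 𝟙 _) {q m N : ℕ} (h : m + q = N) (σ : K ≃ₐ[k] K)
    (e : Sga5.H861.Res.R (LMLS.Lam.{u} n) (FinFr.ext K a) q) (w : HcP (K := K) b j₀ n m) :
    galP b j₀ n σ N (D a b j₀ hj n h e w) =
      D a b j₀ hj n h (Sga5.H861.Res.res (FinFr.galAct a σ) q e) (galP b j₀ n σ m w) := by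
  rw [galP_eq, galP_eq]
  have := full_Psi (jK (K := K) a b j₀ hj) n
  have := faithful_Psi (jK (K := K) a b j₀ hj) n
  exact EqAbs.res_pair (Psi (jK (K := K) a b j₀ hj) n) (EtModW.pull (LMLS.Lam.{u} n) (FinFr.galAct a σ))
    (EtCoh.pull (FinFr.galAct b σ)) (beta a b j₀ hj n σ) hT (FixPt.pullUnit (FinFr.galAct a σ)) (rho a b j₀ hj n)
    (EtCore.pullConst (FinFr.galAct b σ) ℤ) _ h w e

variable [IsAlgClosed K] [ConnectedSpace (FinFr.ext K a)] [IsProper b] (d : ℕ) [SmoothOfRelativeDimension d a]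
  (hn : (n : K) ≠ 0)

theorem smooth_jK : SmoothOfRelativeDimension d (jK (K := K) a b j₀ hj ≫ FinFr.extStr K b) := by
  have h1 : IsPullback (FinFr.extπ K a) (FinFr.extStr K a) a (FinFr.specι k K) :=
    IsPullback.of_hasPullback _ _
  have e1 : jK (K := K) a b j₀ hj ≫ FinFr.extStr K b = FinFr.extStr K a :=
    (pullback.lift_snd _ _ _).trans (Category.comp_id _)
  rw [e1]
  exact (smoothOfRelativeDimension_isStableUnderBaseChange d).of_isPullback h1 ‹SmoothOfRelativeDimension d a›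

include hn in
/-- **Galois equivariant Poincaré duality.** -/
theorem main : Nonempty (HcP (K := K) b j₀ n (2 * d) ≃+ ZMod n) ∧
    (∀ (q m : ℕ) (h : m + q = 2 * d), Function.Bijective (D (K := K) a b j₀ hj n h)) ∧
    (∀ (q m : ℕ) (h : m + q = 2 * d) (σ : K ≃ₐ[k] K) (e : Sga5.H861.Res.R (LMLS.Lam.{u} n) (FinFr.ext K a) q)
      (w : HcP (K := K) b j₀ n m), galP b j₀ n σ (2 * d) (D a b j₀ hj n h e w) =
        D a b j₀ hj n h (Sga5.H861.Res.res (FinFr.galAct a σ) q e) (galP b j₀ n σ m w)) := by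
  have hP : IsProper (FinFr.extStr K b) := inferInstance
  have hsm := smooth_jK (K := K) a b j₀ hj d
  obtain ⟨⟨e1⟩, h2, h3⟩ := duality_unit (FinFr.extStr K b) (jK (K := K) a b j₀ hj) d n hn
  let ρ := rho (K := K) a b j₀ hj n
  let c (m : ℕ) : HcP (K := K) b j₀ n m ≃+ Ext.{u + 1} (Z (FinFr.ext K b))
      ((Psi (jK (K := K) a b j₀ hj) n).obj (FixPt.unit (LMLS.Lam.{u} n) (FinFr.ext K a))) m :=
    AddEquiv.mk' (Equiv.mk (fun y => y.comp (Ext.mk₀ ρ.hom) (add_zero m))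
      (fun y => y.comp (Ext.mk₀ ρ.inv) (add_zero m))
      (fun y => by
        dsimp only
        rw [Ext.comp_assoc_of_third_deg_zero, Ext.mk₀_comp_mk₀, ρ.hom_inv_id, Ext.comp_mk₀_id])
      (fun y => by
        dsimp only
        rw [Ext.comp_assoc_of_third_deg_zero, Ext.mk₀_comp_mk₀, ρ.inv_hom_id, Ext.comp_mk₀_id]))
      (fun x y => Ext.add_comp _ _ _ (add_zero m))
  refine ⟨⟨(c (2 * d)).trans e1⟩, fun q m h => ?_, fun q m h σ e w => gal_D a b j₀ hj n h2 h σ e w⟩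
  have key : ∀ (e : Sga5.H861.Res.R (LMLS.Lam.{u} n) (FinFr.ext K a) q) (w : HcP (K := K) b j₀ n m),
      c (2 * d) (D a b j₀ hj n h e w) =
        ((Psi (jK (K := K) a b j₀ hj) n).mapExtAddHom _ _ q e).postcomp (Z (FinFr.ext K b)) h (c m w) := by
    intro e w
    exact (c (2 * d)).apply_symm_apply _
  constructor
  · intro x y hxy
    apply (h3 q m h).1
    ext z
    obtain ⟨w, rfl⟩ := (c m).surjective z
    have h4 := congrArg (c (2 * d)) (DFunLike.congr_fun hxy w)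
    rw [key, key] at h4
    exact h4
  · intro f
    obtain ⟨e, he⟩ := (h3 q m h).2 (((c (2 * d)).toAddMonoidHom.comp f).comp (c m).symm.toAddMonoidHom)
    refine ⟨e, ?_⟩
    ext w
    apply (c (2 * d)).injective
    rw [key]
    refine (DFunLike.congr_fun he (c m w)).trans ?_
    change c (2 * d) (f ((c m).symm (c m w))) = c (2 * d) (f w)
    rw [AddEquiv.symm_apply_apply]

end Eq

end K721.EqDual
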