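import Groth.Agent.FinFr.K721.DualTrace
import Groth.Agent.Sga7.H744.LCConst

/-!
# Locally constant functions act on the cohomology of a constant sheaf; traces of permutations of the components
-/

set_option autoImplicit false
universe u
open CategoryTheory CategoryTheory.Limits CategoryTheory.Abelian AlgebraicGeometry Opposite
open Groth.Agent Groth.Agent.Sga4h.H925.Defs Groth.Agent.Sga4h.H513.LocFin Groth.Agent.Etcore
open Groth.Agent.Etcore.EtInst Groth.Agent.Etcore.PullCoh Groth.Agent.Etcore.HpullCalc
open Groth.Agent.Sga4B.ConstLC Groth.Agent.Sga7.H744.LCConst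
open scoped Groth.Agent.Etcore.EtInst

namespace K721.Idem

attribute [local instance] Groth.Agent.S0101.result

section LinAlg

theorem trace_eq_zero {R V : Type*} [CommRing R] [AddCommGroup V] [Module R V] {J : Type*} [Fintype J]
    (e : J → V →ₗ[R] V) (s : J → J) (hs : ∀ j, s j ≠ j) (h0 : ∀ i j, i ≠ j → ∀ v, e i (e j v) = 0)
    (h1 : ∀ j v, e j (e j v) = e j v) (h2 : ∀ v, ∑ j, e j v = v) (T : V →ₗ[R] V)
    (hT : ∀ j v, T (e j v) = e (s j) (T v)) : LinearMap.trace R V T = 0 := by
  have e1 : T = ∑ j, (T ∘ₗ e j) ∘ₗ e j := by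
    ext v
    rw [LinearMap.sum_apply]
    simp only [LinearMap.comp_apply, h1]
    rw [← map_sum, h2]
  rw [e1, map_sum]
  refine Finset.sum_eq_zero fun j _ => ?_
  have e2 : e j ∘ₗ (T ∘ₗ e j) = 0 := by
    ext v
    rw [LinearMap.comp_apply, LinearMap.comp_apply, hT]
    exact h0 j (s j) (hs j).symm _
  have e3 : LinearMap.trace R V ((T ∘ₗ e j) * e j) = LinearMap.trace R V (e j * (T ∘ₗ e j)) :=
    LinearMap.trace_mul_comm R _ _
  refine e3.trans ?_
  have e4 : e j * (T ∘ₗ e j) = 0 := e2
  rw [e4, map_zero]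

end LinAlg

section Mul

variable {X Y : Scheme.{u}} (A : Type (u + 1)) [CommRing A]

/-- Multiplication by a locally constant function. -/
noncomputable def mulLC (f : LocallyConstant X A) : LC X A ⟶ LC X A where
  hom :=
    { app := fun U => AddCommGrpCat.ofHom
        (AddMonoidHom.mulLeft (show LocallyConstant U.unop.left A from f.comap (cmap U.unop.hom)))
      naturality := by
        intro U V g
        ext s
        apply LocallyConstant.ext
        intro y
        have e : g.unop.left ≫ U.unop.hom = V.unop.hom := MorphismProperty.Over.w g.unop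
        have h2 : ∀ (a b : V.unop.left ⟶ X), a = b → f (b y) = f (a y) := by
          rintro a b rfl; rfl
        exact congrArg (fun t => t * (DFunLike.coe (F := LocallyConstant U.unop.left A) s) (g.unop.left y)) (h2 _ _ e) }

theorem mulLC_app (f : LocallyConstant X A) (U : X.Etale) (s : LocallyConstant U.left A) (y : U.left) :
    DFunLike.coe (F := LocallyConstant U.left A) ((mulLC A f).hom.app (op U) s) y = f (U.hom y) * s y := rfl

theorem hom_ext {F : LC X A ⟶ LC X A} {G : LC X A ⟶ LC X A}
    (h : ∀ (U : X.Etale) (s : LocallyConstant U.left A) (y : U.left),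
      DFunLike.coe (F := LocallyConstant U.left A) (F.hom.app (op U) s) y =
        DFunLike.coe (F := LocallyConstant U.left A) (G.hom.app (op U) s) y) : F = G := by
  apply Sheaf.hom_ext
  ext U s
  exact LocallyConstant.ext (h U.unop s)

theorem mulLC_mul (f g : LocallyConstant X A) : mulLC A (f * g) = mulLC A g ≫ mulLC A f :=
  hom_ext A fun U s y => mul_assoc (f (U.hom y)) (g (U.hom y)) (s y)

theorem mulLC_one : mulLC A (1 : LocallyConstant X A) = 𝟙 _ :=
  hom_ext A fun U s y => one_mul (s y)

theorem mulLC_add (f g : LocallyConstant X A) : mulLC A (f + g) = mulLC A f + mulLC A g :=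
  hom_ext A fun U s y => add_mul (f (U.hom y)) (g (U.hom y)) (s y)

theorem mulLC_zero : mulLC A (0 : LocallyConstant X A) = 0 :=
  hom_ext A fun U s y => zero_mul (s y)

/-- Compatibility with pullbacks. -/
theorem mulLC_LCres (g : Y ⟶ X) (f : LocallyConstant X A) :
    mulLC A f ≫ LCres g A = LCres g A ≫ (EtCoh.push g).map (mulLC A (f.comap (cmap g))) := by
  apply Sheaf.hom_ext
  ext U s
  apply LocallyConstant.ext
  intro y
  have e : pullback.fst U.unop.hom g ≫ U.unop.hom = pullback.snd U.unop.hom g ≫ g := pullback.condition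
  have h2 : ∀ (a b : pullback U.unop.hom g ⟶ X), a = b → f (a y) = f (b y) := by
    rintro a b rfl; rfl
  exact congrArg (fun t => t * (DFunLike.coe (F := LocallyConstant U.unop.left A) s)
    (pullback.fst U.unop.hom g y)) (h2 _ _ e)

theorem mulLC_LCpull (g : Y ⟶ X) (f : LocallyConstant X A) :
    (EtCoh.pull g).map (mulLC A f) ≫ LCpull g A = LCpull g A ≫ mulLC A (f.comap (cmap g)) := by
  apply ((EtCoh.pullPushAdj g).homEquiv _ _).injective
  rw [Adjunction.homEquiv_naturality_left, Adjunction.homEquiv_naturality_right]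
  have h : (EtCoh.pullPushAdj g).homEquiv _ _ (LCpull g A) = LCres g A := Equiv.apply_symm_apply _ _
  rw [h]
  exact mulLC_LCres A g f

/-- The action on cohomology. -/
noncomputable def mulH (f : LocallyConstant X A) (q : ℕ) : HH X (LC X A) q →+ HH X (LC X A) q :=
  HHmap (mulLC A f) q

theorem mulH_mul (f g : LocallyConstant X A) (q : ℕ) (x : HH X (LC X A) q) :
    mulH A (f * g) q x = mulH A f q (mulH A g q x) := by
  rw [mulH, mulLC_mul, HHmap_comp]
  rfl

theorem mulH_one (q : ℕ) (x : HH X (LC X A) q) : mulH A 1 q x = x := by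
  rw [mulH, mulLC_one, HHmap_id]

theorem mulH_add (f g : LocallyConstant X A) (q : ℕ) (x : HH X (LC X A) q) :
    mulH A (f + g) q x = mulH A f q x + mulH A g q x := by
  rw [mulH, mulLC_add, HHmap_apply, Ext.mk₀_add, Ext.comp_add]
  rfl

theorem mulH_zero (q : ℕ) (x : HH X (LC X A) q) : mulH A 0 q x = 0 := by
  rw [mulH, mulLC_zero, HHmap_apply, Ext.mk₀_zero, Ext.comp_zero]

theorem mulH_sum {J : Type*} (s : Finset J) (f : J → LocallyConstant X A) (q : ℕ) (x : HH X (LC X A) q) :
    mulH A (∑ j ∈ s, f j) q x = ∑ j ∈ s, mulH A (f j) q x := by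
  classical
  induction s using Finset.induction_on with
  | empty => rw [Finset.sum_empty, Finset.sum_empty, mulH_zero]
  | insert a t ha ih => rw [Finset.sum_insert ha, Finset.sum_insert ha, mulH_add, ih]

theorem lcm_mulH (g : Y ⟶ X) (f : LocallyConstant X A) (q : ℕ) (x : HH X (LC X A) q) :
    lcm g A q (mulH A f q x) = mulH A (f.comap (cmap g)) q (lcm g A q x) := by
  rw [lcm_apply, lcm_apply, mulH, mulH, hp_map, ← HHmap_comp, ← HHmap_comp, mulLC_LCpull]

end Mul

end K721.Idem
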