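import Groth.Agent.FinFr.K721.TopSurj
import Groth.Agent.FinFr.K721.ScBase
import Groth.Agent.Etrest.K1
import Groth.Agent.Etrest.ExtZeroComp
import Groth.Agent.Sga4h.EtaleRes
import Groth.Agent.Sga4h.ConsWO
import Groth.Agent.Sga4h.H15.CurveD3
import Groth.Agent.Sga4h.H407.IC
import Groth.Agent.S3113
import Groth.Agent.S0658
import Groth.Agent.Sga4B.FibDense
import Groth.Agent.S0384

/-!
# The Galois action on the top cohomology with compact support along étale morphisms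
-/

set_option autoImplicit false
universe u
open CategoryTheory CategoryTheory.Limits CategoryTheory.Abelian AlgebraicGeometry Opposite
open Groth.Agent Groth.Agent.Sga4h.H925.Defs Groth.Agent.Sga4h.H513.LocFin Groth.Agent.Etcore
open Groth.Agent.Etcore.EtInst Groth.Agent.Etcore.PullCoh Groth.Agent.Etcore.HpullCalc
open Groth.Agent.Sga4h.H923.DevDef
open scoped Groth.Agent.Etcore.EtInst

namespace K721.TransEt

open EqDual ScBase

attribute [local instance] Groth.Agent.S0101.result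

section Eps

variable {U X : Scheme.{u}} (g : U ⟶ X) [Etale g] [EtShriek.JCont g]

/-- `g_! ⊣ g⁻¹`. -/
noncomputable def adjP : EtShriek.extZero g ⊣ EtCoh.pull g :=
  (EtShriek.extZeroAdj g).ofNatIsoRight (Etcore.ShriekBasic.pullIsoRestr g).symm

/-- The trace `g_! M ⟶ M`. -/
noncomputable def eps (M : Type) [AddCommGroup M] :
    (EtShriek.extZero g).obj (EtCoh.const U M) ⟶ EtCoh.const X M :=
  (EtShriek.extZero g).map (EtCore.pullConst g M).inv ≫ (adjP g).counit.app (EtCoh.const X M)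

theorem epi_eps (M : Type) [AddCommGroup M] : Epi ((EtCoh.pull g).map (eps g M)) := by
  have h : IsSplitEpi ((EtCoh.pull g).map ((adjP g).counit.app (EtCoh.const X M))) :=
    ⟨⟨⟨(adjP g).unit.app _, (adjP g).right_triangle_components _⟩⟩⟩
  rw [eps, Functor.map_comp]
  exact epi_comp _ _

end Eps

section Surj

variable {k : Type u} [Field k] {K : Type u} [Field K] [Algebra k K] [IsAlgClosed K]
  {U₀ X₀ P₀ : Scheme.{u}} (g : U₀ ⟶ X₀) [Etale g] [EtShriek.JCont g] (a : X₀ ⟶ Spec (CommRingCat.of k))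
  (b : P₀ ⟶ Spec (CommRingCat.of k)) (j₀ : X₀ ⟶ P₀) [IsOpenImmersion j₀] (hj : j₀ ≫ b = a)
  [IsProper b] (d : ℕ) [SmoothOfRelativeDimension d a] [ConnectedSpace (FinFr.ext K a)] (n : ℕ) (hn : (n : K) ≠ 0)

omit [IsAlgClosed K] [ConnectedSpace (FinFr.ext K a)] in
theorem epi_pull_eps : Epi ((EtCoh.pull (FinFr.extHom K (g ≫ a) g rfl)).map
    ((EtCoh.pull (FinFr.extπ K a)).map (eps g (ZMod n)))) := by
  have h1 := epi_eps g (ZMod n)
  have w : FinFr.extHom K (g ≫ a) g rfl ≫ FinFr.extπ K a = FinFr.extπ K (g ≫ a) ≫ g := FinFr.extHom_fst _ _ _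
  let κ : EtCoh.pull (FinFr.extπ K a) ⋙ EtCoh.pull (FinFr.extHom K (g ≫ a) g rfl) ≅
      EtCoh.pull g ⋙ EtCoh.pull (FinFr.extπ K (g ≫ a)) :=
    (EtCore.pullComp _ _).symm ≪≫ EtCore.pullCongr w ≪≫ EtCore.pullComp _ _
  have e : (EtCoh.pull (FinFr.extHom K (g ≫ a) g rfl)).map
      ((EtCoh.pull (FinFr.extπ K a)).map (eps g (ZMod n))) =
      κ.hom.app _ ≫ (EtCoh.pull (FinFr.extπ K (g ≫ a))).map ((EtCoh.pull g).map (eps g (ZMod n))) ≫
        κ.inv.app _ := by
    have h2 := κ.hom.naturality (eps g (ZMod n))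
    simp only [Functor.comp_map] at h2
    rw [← Category.assoc, ← h2, Category.assoc, Iso.hom_inv_id_app, Category.comp_id]
  rw [e]
  have : Epi ((EtCoh.pull (FinFr.extπ K (g ≫ a))).map ((EtCoh.pull g).map (eps g (ZMod n)))) :=
    inferInstance
  have h3 : Epi ((EtCoh.pull (FinFr.extπ K (g ≫ a))).map ((EtCoh.pull g).map (eps g (ZMod n))) ≫
        κ.inv.app _) := epi_comp _ _
  exact epi_comp _ _

include hj hn in
theorem surjective_eps (hd : DenseRange (FinFr.extHom K (g ≫ a) g rfl)) :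
    Function.Surjective (HHmap ((EtCoh.pull (FinFr.extπ K b)).map
      ((EtShriek.extZero j₀).map (eps g (ZMod n)))) (2 * d)) := by
  have hn0 : 0 < n := Nat.pos_of_ne_zero fun h => hn (by rw [h, Nat.cast_zero])
  have hP : IsProper (FinFr.extStr K b) := inferInstance
  have hsm := smooth_jK (K := K) a b j₀ hj d
  have kc : ∀ Y : Scheme.{u}, EtCoh.KilledBy n (EtCoh.const Y (ZMod n)) := fun Y =>
    Etrest.ConstBasic.killedBy_const _ (ZMod n) n (fun a => by simp)
  let φ := (EtCoh.pull (FinFr.extπ K a)).map (eps g (ZMod n))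
  have h1 : Function.Surjective (HHmap ((EtShriek.extZero (jK (K := K) a b j₀ hj)).map φ) (2 * d)) :=
    TopSurj.surjective_top (FinFr.extStr K b) (jK (K := K) a b j₀ hj) d n hn φ
      (Sga4h.ConsWO.killedBy_pull _ (Sga4h.H15.CurveD3.killedBy_extZero g (kc U₀)))
      (Sga4h.ConsWO.killedBy_pull _ (kc X₀)) (fun f hf => by
        have h4 := TopSurj.comp_eq_zero (FinFr.extHom K (g ≫ a) g rfl) hd n φ (epi_pull_eps g a n) f hf
        exact h4)
  let β := ShriekBaseChange.extZeroBaseChange j₀ (FinFr.extπ K b) (jK (K := K) a b j₀ hj) (FinFr.extπ K a)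
    (isPullback_jK a b j₀ hj)
  have h2 : (EtShriek.extZero (jK (K := K) a b j₀ hj)).map φ ≫ β.hom.app _ =
      β.hom.app _ ≫ (EtCoh.pull (FinFr.extπ K b)).map ((EtShriek.extZero j₀).map (eps g (ZMod n))) :=
    β.hom.naturality (eps g (ZMod n))
  intro y
  obtain ⟨y', rfl⟩ := (HHmap_bijective (β.hom.app _) (2 * d)).2 y
  obtain ⟨x', rfl⟩ := h1 y'
  exact ⟨HHmap (β.hom.app _) (2 * d) x', by rw [← HHmap_comp, ← h2, HHmap_comp]⟩

end Surj

section Main

variable {k : Type u} [Field k] {K : Type u} [Field K] [Algebra k K] [IsAlgClosed K]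
  [Fact FinFr.PullExact.{u}]

/-- Change of compactification for an étale morphism. -/
theorem isSc_comp {U₀ X₀ P Q : Scheme.{u}} (g : U₀ ⟶ X₀) [Etale g] [IsSeparated g] [EtShriek.JCont g]
    (j : X₀ ⟶ Q) [IsOpenImmersion j] (b : Q ⟶ Spec (CommRingCat.of k)) [IsProper b]
    (i : U₀ ⟶ P) [IsOpenImmersion i] (h : P ⟶ Q) [IsProper h] (w : i ≫ h = g ≫ j) (σ : K ≃ₐ[k] K)
    (F : EtCoh.Ab U₀) {n : ℕ} (hn : 0 < n) (hF : EtCoh.KilledBy n F) (m : ℕ) (c : ℤ)
    (H : IsSc (h ≫ b) σ ((EtShriek.extZero i).obj F) m c) :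
    IsSc b σ ((EtShriek.extZero j).obj ((EtShriek.extZero g).obj F)) m c := by
  have := Sga4h.EtaleRes.jCont (g ≫ j)
  have := S0658.locallyQuasiFinite_of_etale (g ≫ j)
  obtain ⟨θ⟩ := Etrest.K1.nonempty_deg0 i h (g ≫ j) w
  have hv := Etrest.K1.isAcyc_extZero i h (g ≫ j) w F (Sga4B.JFComp.isTorsion_of_killedBy hn hF)
  let e := Etrest.ExtZeroComp.extZeroComp g j
  refine isSc_push h b (h ≫ b) rfl σ ((EtShriek.extZero i).obj F)
    (Sga4B.JFComp.isTorsion_of_killedBy hn (Sga4h.H15.CurveD3.killedBy_extZero i hF)) (fun p hp => ?_) _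
    (Sga4B.JFComp.isTorsion_of_killedBy hn (Sga4h.H15.CurveD3.killedBy_extZero j
      (Sga4h.H15.CurveD3.killedBy_extZero g hF))) (θ.symm.app F ≪≫ e.symm.app F) m c H
  obtain ⟨q, rfl⟩ : ∃ r, p = r + 1 := ⟨p - 1, by omega⟩
  exact hv q

theorem denseRange {U₀ X₀ : Scheme.{u}} (g : U₀ ⟶ X₀) [Etale g] [Nonempty U₀]
    (a : X₀ ⟶ Spec (CommRingCat.of k)) [Smooth a] [ConnectedSpace (FinFr.ext K a)] :
    DenseRange (FinFr.extHom K (g ≫ a) g rfl) := by
  have hsm : Smooth (FinFr.extStr K a) :=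
    MorphismProperty.of_isPullback (P := @Smooth) (isPullback_ext a) inferInstance
  have := Sga4B.FibDense.irreducibleSpace_of_smooth (FinFr.extStr K a)
  have h1 : Etale (FinFr.extHom K (g ≫ a) g rfl) :=
    MorphismProperty.of_isPullback (P := @Etale) (isPullback_extHom (K := K) g rfl) inferInstance
  have h2 : Surjective (FinFr.specι k K) := inferInstance
  have h3 : Surjective (FinFr.extπ K (g ≫ a)) :=
    MorphismProperty.of_isPullback (P := @Surjective) (isPullback_ext (K := K) (g ≫ a)).flip h2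
  obtain ⟨x, -⟩ := h3.surj (Classical.arbitrary U₀)
  exact (FinFr.extHom K (g ≫ a) g rfl).isOpenMap.isOpen_range.dense ⟨_, ⟨x, rfl⟩⟩

/-- **The Galois action on the top cohomology with compact support, along étale morphisms.** -/
theorem transfer {U₀ X₀ P Q : Scheme.{u}} (g : U₀ ⟶ X₀) [Etale g] [IsSeparated g] [QuasiCompact g] [Nonempty U₀]
    (a : X₀ ⟶ Spec (CommRingCat.of k)) (d : ℕ) [SmoothOfRelativeDimension d a] [ConnectedSpace (FinFr.ext K a)]
    (j : X₀ ⟶ Q) [IsOpenImmersion j] (b : Q ⟶ Spec (CommRingCat.of k)) [IsProper b] (hj : j ≫ b = a)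
    (i : U₀ ⟶ P) [IsOpenImmersion i] (c : P ⟶ Spec (CommRingCat.of k)) [IsProper c] (hi : i ≫ c = g ≫ a)
    (n : ℕ) (hn : (n : K) ≠ 0) (σ : K ≃ₐ[k] K) (z : ℤ)
    (H : IsSc c σ ((EtShriek.extZero i).obj (EtCoh.const U₀ (ZMod n))) (2 * d) z) :
    IsSc b σ ((EtShriek.extZero j).obj (EtCoh.const X₀ (ZMod n))) (2 * d) z := by
  have hn0 : 0 < n := Nat.pos_of_ne_zero fun h => hn (by rw [h, Nat.cast_zero])
  have hne : NeZero n := ⟨hn0.ne'⟩
  have := Sga4h.EtaleRes.jCont g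
  have hsm : Smooth a := SmoothOfRelativeDimension.smooth d a
  have hQ : IsLocallyNoetherian Q := LocallyOfFiniteType.isLocallyNoetherian b
  have hQc : CompactSpace Q := QuasiCompact.compactSpace_of_compactSpace b
  have hQs : QuasiSeparatedSpace Q := quasiSeparatedSpace_of_quasiSeparated b
  obtain ⟨P₂, i₂, h, hi₂, -, hh, w⟩ := S0384.result (g ≫ j)
  have kc : EtCoh.KilledBy n (EtCoh.const U₀ (ZMod n)) :=
    Etrest.ConstBasic.killedBy_const _ (ZMod n) n (fun a => by simp)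
  obtain ⟨e, he⟩ := Sga4h.H407.IC.exists_equiv K (fun j₁ _ j₂ _ g _ f _ w n hn F hF q => S3113.result j₁ j₂ g f w n hn F hF q) c (h ≫ b) i i₂
    (by rw [hi, ← Category.assoc, w, Category.assoc, hj]) (FinFr.constLam (ZMod n) U₀) (2 * d)
  have H2 : IsSc (h ≫ b) σ ((EtShriek.extZero i₂).obj (EtCoh.const U₀ (ZMod n))) (2 * d) z := by
    have H1 := (isSc_iff (K := K) c σ (FinFr.extZeroLam i (FinFr.constLam (ZMod n) U₀)) (2 * d) z).1 H
    refine (isSc_iff (K := K) (h ≫ b) σ (FinFr.extZeroLam i₂ (FinFr.constLam (ZMod n) U₀)) (2 * d) z).2 fun x => ?_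
    obtain ⟨x, rfl⟩ := e.surjective x
    exact (he σ x).symm.trans ((congrArg e (H1 x)).trans (map_zsmul e z x))
  have H3 := isSc_comp g j b i₂ h w σ _ hn0 kc (2 * d) z H2
  exact H3.of_surj _ (surjective_eps g a b j hj d n hn (denseRange g a))

end Main

end K721.TransEt
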