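import Groth.Agent.FinFr.K721.AffTop
import Groth.Agent.FinFr.K721.TransEt
import Groth.Agent.Vancyc.H120.DiagChart

/-!
# The arithmetic Frobenius on the top cohomology with compact support of a smooth scheme over a finite field
-/

set_option autoImplicit false
universe u
open CategoryTheory CategoryTheory.Limits CategoryTheory.Abelian AlgebraicGeometry Opposite
open Groth.Agent Groth.Agent.Sga4h.H925.Defs Groth.Agent.Sga4h.H513.LocFin Groth.Agent.Etcore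
open Groth.Agent.Etcore.EtInst Groth.Agent.Etcore.PullCoh Groth.Agent.Etcore.HpullCalc
open scoped Groth.Agent.Etcore.EtInst Groth.Agent.Sga4B.ModEtInst

namespace K721

namespace TopScal

open EqDual DualTrace DualTr2 DualSum ScBase

variable {k : Type u} [Field k] {K : Type u} [Field K] [Algebra k K] [Fact FinFr.PullExact.{u}]
  {X₀ P₀ : Scheme.{u}}

theorem isTop_iff (b : P₀ ⟶ Spec (CommRingCat.of k)) (j₀ : X₀ ⟶ P₀) [IsOpenImmersion j₀] (n : ℕ)
    (σ : K ≃ₐ[k] K) (N : ℕ) (z : ℤ) :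
    IsTop b j₀ n σ N (z : ZMod n) ↔ IsSc b σ ((EtShriek.extZero j₀).obj (EtCoh.const X₀ (ZMod n))) N z := by
  refine Iff.trans ?_ (isSc_iff (K := K) b σ (FinFr.extZeroLam j₀ (FinFr.constLam (ZMod n) X₀)) N z).symm
  exact forall_congr' fun x => by rw [Int.cast_smul_eq_zsmul]

variable [IsAlgClosed K] (a : X₀ ⟶ Spec (CommRingCat.of k)) (b : P₀ ⟶ Spec (CommRingCat.of k))
  (j₀ : X₀ ⟶ P₀) [IsOpenImmersion j₀] (hj : j₀ ≫ b = a)
  [ConnectedSpace (FinFr.ext K a)] [IsProper b] (d : ℕ) [SmoothOfRelativeDimension d a]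
  (ℓ : ℕ) [Fact ℓ.Prime] (hn : (ℓ : K) ≠ 0)

include hj hn in
theorem isTop_unique (σ : K ≃ₐ[k] K) (c c' : ZMod ℓ) (h : IsTop b j₀ ℓ σ (2 * d) c)
    (h' : IsTop b j₀ ℓ σ (2 * d) c') : c = c' := by
  obtain ⟨⟨e⟩, -, -⟩ := main (K := K) a b j₀ hj ℓ d hn
  let E : HK K b (FinFr.extZeroLam j₀ (FinFr.constLam (ZMod ℓ) X₀)) (2 * d) ≃+ ZMod ℓ := (tP b j₀ ℓ (2 * d)).trans e
  let E' : HK K b (FinFr.extZeroLam j₀ (FinFr.constLam (ZMod ℓ) X₀)) (2 * d) ≃ₗ[ZMod ℓ] ZMod ℓ :=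
    { E with map_smul' := fun r x => ZMod.map_smul E.toAddMonoidHom r x }
  have h1 := (h (E'.symm 1)).symm.trans (h' (E'.symm 1))
  have h2 := congrArg E' h1
  rwa [map_smul, map_smul, LinearEquiv.apply_symm_apply, smul_eq_mul, smul_eq_mul, mul_one, mul_one] at h2

include hj hn in
theorem exists_int (σ : K ≃ₐ[k] K) :
    ∃ z : ℤ, IsSc b σ ((EtShriek.extZero j₀).obj (EtCoh.const X₀ (ZMod ℓ))) (2 * d) z := by
  obtain ⟨c, hc⟩ := exists_top a b j₀ hj d ℓ hn σ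
  obtain ⟨z, rfl⟩ := ZMod.intCast_surjective c
  exact ⟨z, (isTop_iff b j₀ ℓ σ (2 * d) z).1 hc⟩

end TopScal

namespace TopScal

open EqDual DualTrace DualTr2 DualSum ScBase

/-- The trace formula for affine spaces. -/
def TrAff (k K : Type u) [Field k] [Fintype k] [Field K] [Algebra k K] [Algebra.IsAlgebraic k K]
    [Fact FinFr.PullExact.{u}] (d : ℕ) (ℓ : ℕ) [Fact ℓ.Prime] : Prop :=
  ∀ (P : Scheme.{u}) (b : P ⟶ Spec (CommRingCat.of k)) [IsProper b] (j : Sga2lef.H101.AffOrigin.A k d ⟶ P)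
    [IsOpenImmersion j], j ≫ b = Sga2lef.H101.AffOrigin.f k d → TrFor k K (Sga2lef.H101.AffOrigin.f k d) j b ℓ

section Fin

variable {k : Type u} [Field k] {K : Type u} [Field K] [Algebra k K]
  {X₀ P₀ : Scheme.{u}} (a : X₀ ⟶ Spec (CommRingCat.of k)) (b : P₀ ⟶ Spec (CommRingCat.of k))
  (j₀ : X₀ ⟶ P₀) [IsOpenImmersion j₀] (hj : j₀ ≫ b = a)
  [ConnectedSpace (FinFr.ext K a)]

theorem connected_open [Smooth a] {U₀ : Scheme.{u}} (g : U₀ ⟶ X₀) [IsOpenImmersion g] [Nonempty U₀] :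
    ConnectedSpace (FinFr.ext K (g ≫ a)) := by
  have hsm : Smooth (FinFr.extStr K a) :=
    MorphismProperty.of_isPullback (P := @Smooth) (isPullback_ext a) inferInstance
  have := Sga4B.FibDense.irreducibleSpace_of_smooth (FinFr.extStr K a)
  have h1 : IsOpenImmersion (FinFr.extHom K (g ≫ a) g rfl) :=
    MorphismProperty.of_isPullback (P := @IsOpenImmersion) (isPullback_extHom (K := K) g rfl) inferInstance
  have h2 : Surjective (FinFr.specι k K) := inferInstance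
  have h3 : Surjective (FinFr.extπ K (g ≫ a)) :=
    MorphismProperty.of_isPullback (P := @Surjective) (isPullback_ext (K := K) (g ≫ a)).flip h2
  obtain ⟨x, -⟩ := h3.surj (Classical.arbitrary U₀)
  have : Nonempty (FinFr.ext K (g ≫ a)) := ⟨x⟩
  have : IrreducibleSpace (FinFr.ext K (g ≫ a)) :=
    (FinFr.extHom K (g ≫ a) g rfl).isOpenEmbedding.irreducibleSpace
  infer_instance

variable [IsAlgClosed K] [Fact FinFr.PullExact.{u}] [IsProper b] (d : ℕ) [SmoothOfRelativeDimension d a]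
  (ℓ : ℕ) [Fact ℓ.Prime] [Fintype k] [Algebra.IsAlgebraic k K] (hℓ : (ℓ : k) ≠ 0)

include hj hℓ in
/-- **The scalar of the arithmetic Frobenius on the top cohomology with compact support.** -/
theorem top_eq (hT : TrAff k K d ℓ) (c : ZMod ℓ)
    (hc : IsTop b j₀ ℓ (FinFr.arith k K) (2 * d) c) : c * (Fintype.card k : ZMod ℓ) ^ d = 1 := by
  have hn : (ℓ : K) ≠ 0 := cast_ne ℓ hℓ
  have hX : Nonempty X₀ := by
    obtain ⟨x⟩ : Nonempty (FinFr.ext K a) := inferInstance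
    exact ⟨FinFr.extπ K a x⟩
  obtain ⟨B, _, g, hg, φ, hy, e1, e2⟩ := Vancyc.H120.DiagChart.exists_coords a d (Classical.arbitrary X₀)
  have hU : Nonempty (Spec (CommRingCat.of B)) := by
    obtain ⟨x, -⟩ := hy
    exact ⟨x⟩
  have hs : Smooth a := SmoothOfRelativeDimension.smooth d a
  have hcon := connected_open (K := K) a g
  have hNoe : IsLocallyNoetherian X₀ := LocallyOfFiniteType.isLocallyNoetherian a
  have hsmU : SmoothOfRelativeDimension d (g ≫ a) := by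
    have h0 : SmoothOfRelativeDimension (0 + d) (g ≫ a) := inferInstance
    rwa [zero_add] at h0
  have hA : SmoothOfRelativeDimension d (Sga2lef.H101.AffOrigin.f k d) :=
    Sga2lef.H101.AffOrigin.smooth_mvPolynomial k d
  have hA' : Smooth (Sga2lef.H101.AffOrigin.f k d) := SmoothOfRelativeDimension.smooth d _
  have hψ : Spec.map (CommRingCat.ofHom φ) ≫ Sga2lef.H101.AffOrigin.f k d = g ≫ a := by
    rw [← e1, ← Spec.map_comp, ← CommRingCat.ofHom_comp]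
    rfl
  obtain ⟨P₁, i₁, c₁, hi₁, -, hc₁, w₁⟩ := S0384.result (g ≫ a)
  obtain ⟨P₂, i₂, c₂, hi₂, -, hc₂, w₂⟩ := S0384.result (Sga2lef.H101.AffOrigin.f k d)
  obtain ⟨z, hz⟩ := exists_int (K := K) (g ≫ a) c₁ i₁ w₁ d ℓ hn (FinFr.arith k K)
  have h1 := TransEt.transfer (K := K) g a d j₀ b hj i₁ c₁ w₁ ℓ hn (FinFr.arith k K) z hz
  have h2 : c = (z : ZMod ℓ) := isTop_unique a b j₀ hj d ℓ hn (FinFr.arith k K) c z hc
    ((isTop_iff b j₀ ℓ _ (2 * d) z).2 h1)
  have h3 := TransEt.transfer (K := K) (Spec.map (CommRingCat.ofHom φ)) (Sga2lef.H101.AffOrigin.f k d) d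
    i₂ c₂ w₂ i₁ c₁ (w₁.trans hψ.symm) ℓ hn (FinFr.arith k K) z hz
  rw [h2]
  exact AffTop.top_eq k K d c₂ i₂ w₂ ℓ hℓ (hT P₂ c₂ i₂ w₂) _ ((isTop_iff c₂ i₂ ℓ _ (2 * d) z).2 h3)

end Fin

end TopScal

end K721
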