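import Groth.Agent.FinFr.K721.EqDual
import Groth.Agent.Sga2lef.H252.CompDualFinal
import Groth.Agent.Sga2lef.H252.ModOf
import Groth.Agent.Sga2lef.H101.DepthOne
import Groth.Agent.VarietyA.ExtSurj
import Groth.Agent.Sga5.EtKilled
import Groth.Agent.Etrest.ConstBasic
import Groth.Agent.S0648

/-!
# Surjectivity on compactly supported cohomology in the top degree

`X` smooth of relative dimension `d` over an algebraically closed field, `φ : F ⟶ G` a morphism of sheaves killed by
`n` such that a morphism from `G` to `ℤ/n` vanishes as soon as its composition with `φ` does.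
-/

set_option autoImplicit false
universe u
open CategoryTheory CategoryTheory.Limits CategoryTheory.Abelian AlgebraicGeometry Opposite
open Groth.Agent Groth.Agent.Etrest.ModAb Groth.Agent.Sga4B Groth.Agent.Sga4h.BidGlobPkg
open Groth.Agent.Sga4B.DualAsm Groth.Agent.Sga4B.LMLS
open Groth.Agent.Etcore.EtInst
open scoped Groth.Agent.Etcore.EtInst Groth.Agent.Sga4B.ModEtInst

namespace K721.TopSurj

variable {K : Type u} [Field K] [IsAlgClosed K] {X P : Scheme.{u}}
  (a : P ⟶ Spec (CommRingCat.of K)) [IsProper a] (j : X ⟶ P) [IsOpenImmersion j]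
  (d : ℕ) [SmoothOfRelativeDimension d (j ≫ a)] (n : ℕ) (hn : (n : K) ≠ 0)

include a hn in
/-- Vanishing in the top degree. -/
theorem subsingleton_top (C : EtCoh.Ab X) (hC : EtCoh.KilledBy n C)
    (h0 : ∀ f : C ⟶ EtCoh.const X (ZMod n), f = 0) :
    Subsingleton (EtCoh.H P ((EtShriek.extZero j).obj C) (2 * d)) := by
  obtain ⟨M, ⟨e⟩⟩ := Sga2lef.H252.ModOf.exists_mod C hC
  refine Sga2lef.H252.CompDualFinal.subsingleton_H a j d n hn M (q := 0) (i := 2 * d) (add_zero _) ?_ C e
  have key : ∀ f : M ⟶ cM (Lam.{u} n) X, (ab (Lam.{u} n) X).map f = 0 := fun f => by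
    have h1 := h0 (e.inv ≫ (ab (Lam.{u} n) X).map f ≫ (EtSix.H42.TateK.abConst n X).hom)
    have h2 : (ab (Lam.{u} n) X).map f ≫ (EtSix.H42.TateK.abConst n X).hom = 0 := by
      rw [← cancel_epi e.inv, h1, comp_zero]
    rw [← cancel_mono (EtSix.H42.TateK.abConst n X).hom, zero_comp]
    exact h2
  have h3 : Subsingleton (M ⟶ cM (Lam.{u} n) X) := ⟨fun f g =>
    (ab (Lam.{u} n) X).map_injective ((key f).trans (key g).symm)⟩
  exact (Ext.addEquiv₀ (X := M) (Y := cM (Lam.{u} n) X)).toEquiv.subsingleton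

include a hn in
/-- **Surjectivity in the top degree.** -/
theorem surjective_top {F G : EtCoh.Ab X} (φ : F ⟶ G) (hF : EtCoh.KilledBy n F) (hG : EtCoh.KilledBy n G)
    (h : ∀ f : G ⟶ EtCoh.const X (ZMod n), φ ≫ f = 0 → f = 0) :
    Function.Surjective (HHmap ((EtShriek.extZero j).map φ) (2 * d)) := by
  have hn0 : 0 < n := Nat.pos_of_ne_zero fun h => hn (by rw [h, Nat.cast_zero])
  have := S0648.result j
  have h1 : Subsingleton (HH P ((EtShriek.extZero j).obj (cokernel φ)) (2 * d)) := by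
    refine subsingleton_top a j d n hn (cokernel φ) (Sga5.EtKilled.killedBy_of_epi (cokernel.π φ) hG) fun f => ?_
    rw [← cancel_epi (cokernel.π φ), comp_zero]
    exact h _ (by rw [cokernel.condition_assoc, zero_comp])
  have h2 : Subsingleton (HH P ((EtShriek.extZero j).obj (kernel φ)) (2 * d + 1)) :=
    DualCdX.subsingleton_H a j d (kernel φ)
      (JFComp.isTorsion_of_killedBy hn0 (Sga5.EtKilled.killedBy_of_mono (kernel.ι φ) hF)) (2 * d + 1)
      (Nat.lt_succ_self _)
  have e1 : (EtShriek.extZero j).obj (cokernel φ) ≅ cokernel ((EtShriek.extZero j).map φ) :=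
    PreservesCokernel.iso (EtShriek.extZero j) φ
  have e2 : (EtShriek.extZero j).obj (kernel φ) ≅ kernel ((EtShriek.extZero j).map φ) :=
    PreservesKernel.iso (EtShriek.extZero j) φ
  exact VarietyA.ExtSurj.postcomp_surjective ((EtShriek.extZero j).map φ) (EtCoh.const P ℤ) (2 * d)
    ((HHcongr e1 (2 * d)).symm.toEquiv.subsingleton) ((HHcongr e2 (2 * d + 1)).symm.toEquiv.subsingleton)

/-- A dominant étale morphism. -/
theorem comp_eq_zero {U X : Scheme.{u}} (g : U ⟶ X) (hd : DenseRange g) (m : ℕ) {F G : EtCoh.Ab X} (φ : F ⟶ G)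
    (hφ : Epi ((EtCoh.pull g).map φ)) (f : G ⟶ EtCoh.const X (ZMod m)) (hf : φ ≫ f = 0) : f = 0 := by
  have h1 : (EtCoh.pull g).map f = 0 := by
    rw [← cancel_epi ((EtCoh.pull g).map φ), ← Functor.map_comp, hf, Functor.map_zero, comp_zero]
  have h2 := Sga2lef.H101.DepthOne.mono_unit_const g hd (ZMod m)
  rw [← cancel_mono ((EtCoh.pullPushAdj g).unit.app (EtCoh.const X (ZMod m))), zero_comp]
  have h3 := (EtCoh.pullPushAdj g).unit.naturality f
  rw [Functor.id_map] at h3
  rw [h3, Functor.comp_map, h1, Functor.map_zero, comp_zero]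

end K721.TopSurj
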